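import Cfsg.Agent.Lib.AfterFT.DihedralSquare.Automizer

/-!
Both factors dihedral: an essential subgroup contains one of them, and the resulting form of Alperin's theorem.
-/

set_option autoImplicit false
set_option linter.unusedSectionVars false

namespace CfsgLib.AfterFT.DihedralSquare

open Cfsg Cfsg.FusionSystem Subgroup

universe u
variable {G : Type u} [Group G] [Finite G] {P : Sylow 2 G} {E : Subgroup G}

namespace Frame

variable (fr : Frame (P : Subgroup G))

theorem pr_conj {g a : G} (hg : g ∈ (P : Subgroup G)) (ha : a ∈ (P : Subgroup G)) :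
    fr.pr (g * a * g⁻¹) = fr.pr g * fr.pr a * (fr.pr g)⁻¹ := by
  rw [fr.pr_mul (P.mul_mem hg ha) (P.inv_mem hg), fr.pr_mul hg ha, fr.pr_inv hg]

theorem inV_x_conj {t v : G} (ht : fr.IsRefl t) (hv : fr.InV t v) :
    fr.InV t (fr.x * v * fr.x⁻¹) ∧ (fr.x * v * fr.x⁻¹ = v ∨ fr.x * v * fr.x⁻¹ = v * fr.z) := by
  rcases fr.inV_refl ht hv with (e | e) | ⟨hr, e⟩
  · rw [e, mul_one, mul_inv_cancel]; exact ⟨Or.inl rfl, Or.inl rfl⟩
  · rw [e, fr.z_comm_D fr.x_mem, mul_inv_cancel_right]; exact ⟨Or.inr (Or.inl rfl), Or.inl rfl⟩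
  · rw [fr.x_conj_refl hr]
    exact ⟨fr.inV_mul ht hv (Or.inr (Or.inl rfl)), Or.inr rfl⟩

theorem inV_normalizing_sq {t d : G} (ht : fr.IsRefl t) (hd : d ∈ fr.D) (h : fr.InV t (d * t * d⁻¹)) :
    fr.InV t (d * d) := by
  rcases fr.inV_refl ht h with (e | e) | ⟨-, e | e⟩
  · exact absurd (conj_eq_one_iff.mp e) (fr.refl_ne ht).1
  · rw [mul_inv_eq_iff_eq_mul, ← fr.z_comm_D hd, mul_left_cancel_iff] at e
    exact absurd e (fr.refl_ne ht).2
  · rw [fr.inV_sq ht (fr.inV_of_commute ht hd (mul_inv_eq_iff_eq_mul.mp e))]; exact Or.inl rfl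
  · rw [← fr.x_conj_refl ht, mul_inv_eq_iff_eq_mul] at e
    have hv : fr.InV t (fr.x⁻¹ * d) := by
      refine fr.inV_of_commute ht (mul_mem (inv_mem fr.x_mem) hd) ?_
      calc fr.x⁻¹ * d * t = fr.x⁻¹ * (d * t) := mul_assoc _ _ _
        _ = t * (fr.x⁻¹ * d) := by rw [e]; group
    have : d * d = fr.x * (fr.x⁻¹ * d) * fr.x⁻¹ * (fr.z * (fr.x⁻¹ * d)) := by rw [← fr.x_mul_x]; group
    rw [this]
    exact fr.inV_mul ht (fr.inV_x_conj ht hv).1 (fr.inV_mul ht (Or.inr (Or.inl rfl)) hv)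

/-- Two dihedral factors: an essential subgroup contains one of them. -/
theorem D_le_or (fr' : Frame (P : Subgroup G)) (hD : fr'.D = fr.Q) (hQ : fr'.Q = fr.D)
    (hE : (groupFusionSystem (P : Subgroup G)).IsEssential 2 E) : fr.D ≤ E ∨ fr'.D ≤ E := by
  haveI : Fact (Nat.Prime 2) := ⟨Nat.prime_two⟩
  by_contra hcon
  push Not at hcon
  obtain ⟨t, ht, hV, hpr⟩ := fr.exists_inV hE hcon.1
  obtain ⟨t', ht', hV', hpr'⟩ := fr'.exists_inV hE hcon.2
  have hES := hE.1.1
  set F := groupFusionSystem (P : Subgroup G) with hF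
  have hsplit : ∀ g ∈ (P : Subgroup G), g = fr.pr g * fr'.pr g := by
    intro g hg
    obtain ⟨d, hd, q, hq, rfl⟩ := fr.exists_decomp hg
    have h' : fr'.pr (q * d) = q := fr'.pr_eq (hD.ge hq) (hQ.ge hd)
    rw [← fr.commute_DQ hd hq] at h'
    rw [fr.pr_eq hd hq, h']
  have hmem : ∀ g ∈ (P : Subgroup G), fr.InV t (fr.pr g) → fr'.InV t' (fr'.pr g) → g ∈ E := fun g hg h1 h2 => by
    rw [hsplit g hg]; exact mul_mem (hV _ h1) (hV' _ h2)
  have hab : ∀ a ∈ E, ∀ b ∈ E, a * b = b * a := by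
    intro a ha b hb
    rw [hsplit a (hES ha), hsplit b (hES hb)]
    have c1 := fr.inV_comm ht (hpr a ha) (hpr b hb)
    have c2 := fr'.inV_comm ht' (hpr' a ha) (hpr' b hb)
    have c3 := fr.commute_DQ (fr.pr_mem (hES hb)) (hD.le (fr'.pr_mem (hES ha)))
    have c4 := fr.commute_DQ (fr.pr_mem (hES ha)) (hD.le (fr'.pr_mem (hES hb)))
    calc fr.pr a * fr'.pr a * (fr.pr b * fr'.pr b) = fr.pr a * (fr'.pr a * fr.pr b) * fr'.pr b := by group
      _ = fr.pr a * fr.pr b * (fr'.pr a * fr'.pr b) := by rw [← c3]; group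
      _ = fr.pr b * (fr.pr a * fr'.pr b) * fr'.pr a := by rw [c1, c2]; group
      _ = fr.pr b * fr'.pr b * (fr.pr a * fr'.pr a) := by rw [c4]; group
  have key : ∀ (f f' : Frame (P : Subgroup G)) (s s' : G), f.IsRefl s → f'.IsRefl s' → f.D = f'.Q →
      (∀ g ∈ (P : Subgroup G), f.InV s (f.pr g) → f'.InV s' (f'.pr g) → g ∈ E) →
      (∀ g ∈ E, f.InV s (f.pr g)) → (∀ g ∈ E, f'.InV s' (f'.pr g)) →
      f.x ∈ normalizerIn (P : Subgroup G) E ∧ f.x ∉ E ∧ IsTrans E f.x f.z ∧ f.z ∈ E ∧ s ∈ E ∧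
        MulAut.conj f.x s = s * f.z := by
    intro f f' s s' hs hs' hf hm hp hp'
    have hxS := f.D_le f.x_mem
    have h1 : ∀ {d : G}, d ∈ f.D → f'.pr d = 1 := fun hd => f'.pr_of_mem_Q (hf.le hd)
    have hin : ∀ d, f.InV s d → d ∈ E := fun d hd => hm d (f.D_le (f.inV_mem hs hd))
      (by rw [f.pr_of_mem_D (f.inV_mem hs hd)]; exact hd) (by rw [h1 (f.inV_mem hs hd)]; exact Or.inl rfl)
    have htr : IsTrans E f.x f.z := by
      intro a ha
      have e := f.commutator_pr f.x_mem (hES ha)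
      rcases (f.inV_x_conj hs (hp a ha)).2 with e' | e'
      · left; rw [e', mul_inv_cancel, mul_inv_eq_one] at e; exact e
      · right
        rw [e', f.z_comm_D (f.pr_mem (hES ha)), mul_inv_cancel_right, mul_inv_eq_iff_eq_mul] at e
        rw [MulAut.conj_apply, e, f.z_comm (hES ha)]
    refine ⟨⟨hxS, mem_normalizer_fintype fun g hg => ?_⟩, fun hx => f.x_sq_ne_one (f.inV_sq hs (by
      have := hp _ hx; rwa [f.pr_of_mem_D f.x_mem] at this)), htr, hin _ (Or.inr (Or.inl rfl)),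
      hin _ (Or.inr (Or.inr (Or.inl rfl))), f.x_conj_refl hs⟩
    rcases htr g hg with e | e <;> simp only [MulAut.conj_apply] at e <;> rw [e]
    · exact hg
    · exact mul_mem hg (hin _ (Or.inr (Or.inl rfl)))
  obtain ⟨hx, hxE, hxT, hzE, htE, hxt⟩ := key fr fr' t t' ht ht' hQ.symm hmem hpr hpr'
  obtain ⟨hy, hyE, hyT, huE, ht'E, hyt⟩ := key fr' fr t' t ht' ht hD
    (fun g hg h1 h2 => hmem g hg h2 h1) hpr' hpr
  have hsyl := (isFullyNormalized_groupFusionSystem_iff P hES).mp hE.2.1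
  have hNS : NoSwap (normalizer (E : Set G)) E := by
    refine noSwap_of_sylow hsyl (fun n hn a ha => (mem_normalizer_iff.mp hn a).mp ha) fun s hs a ha => hab _ ?_ a ha
    have hsS := hs.1
    refine hmem _ (P.mul_mem hsS hsS) ?_ ?_
    · rw [fr.pr_mul hsS hsS]
      refine fr.inV_normalizing_sq ht (fr.pr_mem hsS) ?_
      have := hpr _ ((mem_normalizer_iff.mp hs.2 t).mp htE)
      rwa [fr.pr_conj hsS (hES htE), fr.pr_of_mem_D ht.1] at this
    · rw [fr'.pr_mul hsS hsS]
      refine fr'.inV_normalizing_sq ht' (fr'.pr_mem hsS) ?_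
      have := hpr' _ ((mem_normalizer_iff.mp hs.2 t').mp ht'E)
      rwa [fr'.pr_conj hsS (hES ht'E), fr'.pr_of_mem_D ht'.1] at this
  refine hE.extendableAut_ne P.2 (groupFusionSystem_isSaturated P) (le_antisymm (extendableAut_le_autGroup hES) ?_)
  intro γ hγ
  obtain ⟨g, hg, rfl⟩ := exists_conjAut hES hγ
  set k := g * fr.x * g⁻¹ with hk'
  have hk : k ∈ normalizer (E : Set G) := mul_mem (mul_mem hg hx.2) (inv_mem hg)
  set w := MulAut.conj g fr.z with hw
  have hwE : w ∈ E := (mem_normalizer_iff.mp hg _).mp hzE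
  have hw2 : w * w = 1 := by rw [hw, ← map_mul, fr.z_mul_z, map_one]
  have hw1 : w ≠ 1 := fun e => fr.z_ne_one ((MulEquiv.map_eq_one_iff _).mp e)
  have hk_apply : ∀ a, MulAut.conj k (MulAut.conj g a) = MulAut.conj g (MulAut.conj fr.x a) := fun a => by
    rw [hk', map_mul, map_mul, MulAut.mul_apply, MulAut.mul_apply, conj_inv_conj]
  have hkT : IsTrans E k w := by
    intro a ha
    have ha' : MulAut.conj g⁻¹ a ∈ E := (mem_normalizer_iff.mp (inv_mem hg) a).mp ha
    have e2 : MulAut.conj g (MulAut.conj g⁻¹ a) = a := by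
      rw [← MulAut.mul_apply, ← map_mul, mul_inv_cancel, map_one, MulAut.one_apply]
    have e3 := hk_apply (MulAut.conj g⁻¹ a)
    rw [e2] at e3
    rcases hxT _ ha' with e | e <;> rw [e3, e]
    · exact Or.inl e2
    · exact Or.inr (by rw [map_mul, e2])
  have hxz : MulAut.conj fr.x fr.z = fr.z := by rw [MulAut.conj_apply, fr.z_comm_D fr.x_mem, mul_inv_cancel_right]
  have hyu : MulAut.conj fr'.x fr'.z = fr'.z := by
    rw [MulAut.conj_apply, fr'.z_comm_D fr'.x_mem, mul_inv_cancel_right]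
  have hkw : MulAut.conj k w = w := by rw [hw, hk_apply, hxz]
  have hka : ∃ a ∈ E, MulAut.conj k a = a * w := ⟨MulAut.conj g t, (mem_normalizer_iff.mp hg t).mp htE, by
    rw [hk_apply, hxt, map_mul]⟩
  have invol : ∀ {f v : G}, MulAut.conj f v = v → v * v = 1 → IsTrans E f v → ∀ a ∈ E,
      MulAut.conj f (MulAut.conj f a) = a := by
    intro f v hv hv2 hT a ha
    rcases hT a ha with e | e
    · rw [e, e]
    · rw [e, map_mul, e, hv, mul_assoc, hv2, mul_one]
  -- a commuting transvection of `S` makes `g` extend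
  have comm_ext : ∀ {y' u : G} (hy' : y' ∈ normalizerIn (P : Subgroup G) E), y' ∉ E → IsTrans E y' u → u ∈ E →
      u * u = 1 → MulAut.conj y' u = u → MulAut.conj k u = u → MulAut.conj y' w = w →
      conjAut hg ∈ extendableAut F E := by
    intro y' u hy' hy'E hT hu hu2 hfix hku hyw
    set a := conjAut hk
    set b := conjAut hy'.2
    have hsq : ∀ {f v : G} (hf : f ∈ normalizer (E : Set G)), MulAut.conj f v = v → v * v = 1 → IsTrans E f v →
        conjAut hf * conjAut hf = 1 := fun hf h1 h2 h3 => MulEquiv.ext fun e => Subtype.ext (invol h1 h2 h3 e e.2)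
    have hab' : a * b = b * a := MulEquiv.ext fun e => Subtype.ext
      (trans_commute hab hwE hu hkT hT hku hyw e.2)
    have hp : ∀ {c : MulAut E}, c * c = 1 → IsPGroup 2 (zpowers c) := by
      intro c hc
      rintro ⟨d, hd⟩
      obtain ⟨i, rfl⟩ := mem_zpowers_iff.mp hd
      refine ⟨1, Subtype.ext ?_⟩
      show (c ^ i) ^ 2 = 1
      rw [← zpow_natCast, ← zpow_mul, mul_comm, zpow_mul, zpow_natCast, pow_two, hc, one_zpow]
    have hN : zpowers b ≤ normalizer ((zpowers a : Subgroup (MulAut E)) : Set (MulAut E)) := by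
      rw [zpowers_le, mem_normalizer_iff_map_conj_eq, MonoidHom.map_zpowers]
      congr 1
      show b * a * b⁻¹ = a
      rw [← hab', mul_inv_cancel_right]
    have hA := IsPGroup.to_sup_of_normal_left' (hp (hsq hk hkw hw2 hkT)) (hp (hsq hy'.2 hfix hu2 hT)) hN
    have hle : zpowers a ⊔ zpowers b ≤ F.autGroup E :=
      sup_le (zpowers_le.mpr (conjAut_mem hES hk)) (zpowers_le.mpr (conjAut_mem hES hy'.2))
    obtain ⟨-, T, hT'⟩ := (groupFusionSystem_isSaturated P).isFullyAutomized_of_isFullyNormalized P.2 hE.2.1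
    obtain ⟨δ, hδ⟩ := exists_conj_mem_sylow T (hA.of_equiv (subgroupOfEquivOfLe hle).symm)
    have hδ' : ∀ c (hc : c ∈ zpowers a ⊔ zpowers b),
        (δ : MulAut E) * c * (δ : MulAut E)⁻¹ ∈ autInducedBy (P : Subgroup G) E := by
      intro c hc
      have := hδ ⟨c, hle hc⟩ hc
      rw [hT'] at this
      exact this
    have hrec := (groupFusionSystem_isSaturated P).isReceptive_of_isFullyNormalized P.2 hE.2.1
    have h1 : (δ : MulAut E) ∈ extendableAut F E :=
      mem_extendableAut_of_conj hrec δ.2 (conjAut_mem_induced hy')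
        (not_mem_inn hE.1.centralizerIn_le_self hES hy' hy'E) (hδ' b (mem_sup_right (mem_zpowers b)))
    have h2 : (δ : MulAut E) * conjAut hg ∈ extendableAut F E := by
      refine mem_extendableAut_of_conj hrec (mul_mem δ.2 hγ) (conjAut_mem_induced hx)
        (not_mem_inn hE.1.centralizerIn_le_self hES hx hxE) ?_
      have e : a = conjAut hg * conjAut hx.2 * (conjAut hg)⁻¹ := by
        rw [← conjAut_inv hg, ← conjAut_mul, ← conjAut_mul]
      have := hδ' a (mem_sup_left (mem_zpowers a))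
      rw [e] at this
      simpa [mul_assoc] using this
    simpa using mul_mem (inv_mem h1) h2
  have hne : fr.z ≠ fr'.z := fun e => fr.z_ne_one (fr.eq_one_of_mem fr.z_mem (e ▸ hD.le fr'.z_mem))
  rcases hkT fr'.z huE with hku | hku
  · -- `k` commutes with the second transvection
    refine comm_ext hy hyE hyT huE fr'.z_mul_z hyu hku ((hyT w hwE).resolve_right fun hyw => ?_)
    exact fr'.z_ne_one (both_or_none hNS hk hy.2 hwE huE hw2 fr'.z_mul_z hab hyT hkw hyu hka hyw hku)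
  · rcases hkT fr.z hzE with hkz | hkz
    · refine comm_ext hx hxE hxT hzE fr.z_mul_z hxz hkz ((hxT w hwE).resolve_right fun hxw => ?_)
      exact fr.z_ne_one (both_or_none hNS hk hx.2 hwE hzE hw2 fr.z_mul_z hab hxT hkw hxz hka hxw hkz)
    · exfalso
      have hyw : MulAut.conj fr'.x w = w * fr'.z := (hyT w hwE).resolve_left fun e => hw1
        (both_or_none hNS hy.2 hk huE hwE fr'.z_mul_z hw2 hab hkT hyu hkw ⟨t', ht'E, hyt⟩ hku e)
      have hxw : MulAut.conj fr.x w = w * fr.z := (hxT w hwE).resolve_left fun e => hw1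
        (both_or_none hNS hx.2 hk hzE hwE fr.z_mul_z hw2 hab hkT hxz hkw ⟨t, htE, hxt⟩ hkz e)
      have hcx : MulAut.conj fr.x fr'.z = fr'.z := by
        rw [MulAut.conj_apply, fr.commute_DQ fr.x_mem (hD.le fr'.z_mem), mul_inv_cancel_right]
      have hcy : MulAut.conj fr'.x fr.z = fr.z := by
        rw [MulAut.conj_apply, ← fr.commute_DQ fr.z_mem (hD.le fr'.x_mem), mul_inv_cancel_right]
      exact hne (no_triangle hNS hx.2 hy.2 hk hzE huE hwE fr.z_mul_z fr'.z_mul_z hw2 hab hxz hcx hcy hyu hkw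
        hkz hku hxw hyw)

end Frame

/-- Alperin's theorem for a relation preserved by inner and extendable automorphisms. -/
theorem rel_of_alperin (Rel : G → G → Prop) (hsymm : ∀ {a b}, Rel a b → Rel b a)
    (htrans : ∀ {a b c}, Rel a b → Rel b c → Rel a c)
    (hinner : ∀ s ∈ (P : Subgroup G), ∀ a ∈ (P : Subgroup G), Rel a (s * a * s⁻¹))
    (hS : ∀ g ∈ normalizer ((P : Subgroup G) : Set G), ∀ a ∈ (P : Subgroup G), Rel a (g * a * g⁻¹))
    (hE : ∀ E : Subgroup G, (groupFusionSystem (P : Subgroup G)).IsEssential 2 E →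
      ∀ g (hg : g ∈ normalizer (E : Set G)), conjAut hg ∈ extendableAut (groupFusionSystem (P : Subgroup G)) E ∨
        ∃ d, ∃ hd : d ∈ normalizer (E : Set G), conjAut hd ∈ extendableAut (groupFusionSystem (P : Subgroup G)) E ∧
          ∀ a ∈ E, Rel a ((g * d⁻¹) * a * (g * d⁻¹)⁻¹))
    {a g : G} (ha : a ∈ (P : Subgroup G)) (hga : g * a * g⁻¹ ∈ (P : Subgroup G)) : Rel a (g * a * g⁻¹) := by
  haveI : Fact (Nat.Prime 2) := ⟨Nat.prime_two⟩
  set F := groupFusionSystem (P : Subgroup G) with hF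
  have hrefl : ∀ b ∈ (P : Subgroup G), Rel b b := fun b hb => by simpa using hinner 1 P.one_mem b hb
  let R : FusionSystem (P : Subgroup G) :=
    { Hom := fun Q => {φ | φ ∈ F.Hom Q ∧ ∀ x : Q, Rel x (φ x)}
      le_of_mem := fun h => F.le_of_mem h.1
      injective_of_mem := fun h => F.injective_of_mem h.1
      conj_mem := fun {Q s} hQ hs => ⟨F.conj_mem hQ hs, fun x => hinner s hs x (hQ x.2)⟩
      comp_mem := fun {Q Q' φ ψ} hφ hψ h => ⟨F.comp_mem hφ.1 hψ.1 h, fun x => htrans (hφ.2 x) (hψ.2 ⟨φ x, h x⟩)⟩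
      inv_mem := fun {Q φ} hφ => by
        obtain ⟨ψ, hψ, hl⟩ := F.inv_mem hφ.1
        refine ⟨ψ, ⟨hψ, ?_⟩, hl⟩
        rintro ⟨_, x, rfl⟩
        rw [hl]
        exact hsymm (hφ.2 x) }
  have key : F ≤ R := by
    refine (groupFusionSystem_isSaturated P).le_of_autGroup_le' P.2 R fun Q hQ hbig => ?_
    intro α hα
    have hQS : Q ≤ (P : Subgroup G) := by
      rcases hQ with rfl | hQ
      exacts [le_rfl, hQ.1.1]
    refine (R.mem_autGroup_iff hQS).mpr ⟨(F.mem_autGroup_iff hQS).mp hα, fun x => ?_⟩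
    obtain ⟨g, hg, rfl⟩ := exists_conjAut hQS hα
    show Rel (x : G) (g * (x : G) * g⁻¹)
    rcases hQ with rfl | hQ
    · exact hS g hg x x.2
    let X : Subgroup (MulAut Q) :=
      { carrier := {β | ∀ e : Q, Rel (e : G) ((β e : Q) : G)}
        one_mem' := fun e => hrefl e (hQS e.2)
        mul_mem' := fun {b c} hb hc e => htrans (hc e) (hb (c e))
        inv_mem' := fun {b} hb e => hsymm (by simpa using hb (b⁻¹ e)) }
    have hext : extendableAut F Q ≤ X := by
      rw [extendableAut, closure_le]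
      rintro β ⟨Q', hlt, φ, hφ, he⟩ e
      have := finite_of_le (F.source_le hφ)
      have h2 := (hbig Q' (card_lt_of_lt hlt) hφ).2 (inclusion hlt.le e)
      rwa [he e] at h2
    rcases hE Q hQ g hg with h1 | ⟨d, hd, h1, h2⟩
    · exact hext h1 x
    · refine htrans (hext h1 x) ?_
      have := h2 _ ((mem_normalizer_iff.mp hd (x : G)).mp x.2)
      rw [conjAut_apply]
      simpa [mul_assoc] using this
  have hle : zpowers a ≤ (P : Subgroup G) := zpowers_le.mpr ha
  have h1 := key (zpowers a) (conjHom_mem_groupFusionSystem (g := g) hle fun x hx => by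
    obtain ⟨i, rfl⟩ := mem_zpowers_iff.mp hx
    rw [← conj_zpow]; exact zpow_mem hga i)
  exact h1.2 ⟨a, mem_zpowers a⟩

/-- The relation of a braid: it suffices to treat the conjugate transvections. -/
theorem Typical.alperin_step {fr : Frame (P : Subgroup G)} {t : G} (h : Typical fr E t) (Rel : G → G → Prop)
    (hsymm : ∀ {a b}, Rel a b → Rel b a) (htrans : ∀ {a b c}, Rel a b → Rel b c → Rel a c)
    (hinner : ∀ s ∈ (P : Subgroup G), ∀ a ∈ (P : Subgroup G), Rel a (s * a * s⁻¹))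
    (hrel : ∀ g ∈ normalizer (E : Set G), fr.IsRefl (fr.pr (MulAut.conj g fr.z)) →
      MulAut.conj (g * fr.x * g⁻¹) fr.z = fr.z * MulAut.conj g fr.z →
      ∀ a ∈ E, Rel a (MulAut.conj (g * fr.x * g⁻¹) a))
    (g : G) (hg : g ∈ normalizer (E : Set G)) :
    conjAut hg ∈ extendableAut (groupFusionSystem (P : Subgroup G)) E ∨
      ∃ d, ∃ hd : d ∈ normalizer (E : Set G), conjAut hd ∈ extendableAut (groupFusionSystem (P : Subgroup G)) E ∧
        ∀ a ∈ E, Rel a ((g * d⁻¹) * a * (g * d⁻¹)⁻¹) := by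
  rcases h.extendable_or_moves hg with h1 | ⟨hr, hm⟩
  · exact Or.inl h1
  right
  obtain ⟨hd, he⟩ := h.extendable_braid hg hr hm
  refine ⟨_, hd, he, fun a ha => ?_⟩
  set k := g * fr.x * g⁻¹ with hk'
  have hk : k ∈ normalizer (E : Set G) := h.exists_conj g hg
  have hb : MulAut.conj k⁻¹ a ∈ E := (mem_normalizer_iff.mp (inv_mem hk) a).mp ha
  have h1 := hrel g hg hr hm _ hb
  rw [← MulAut.mul_apply, ← map_mul, mul_inv_cancel, map_one, MulAut.one_apply] at h1
  have h2 := hinner fr.x⁻¹ (P.inv_mem (fr.D_le fr.x_mem)) _ (h.le hb)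
  have h3 := htrans (hsymm h1) h2
  have e : fr.x⁻¹ * MulAut.conj k⁻¹ a * fr.x⁻¹⁻¹ = g * (k * fr.x * g)⁻¹ * a * (g * (k * fr.x * g)⁻¹)⁻¹ := by
    rw [MulAut.conj_apply]; group
  rwa [e] at h3

end CfsgLib.AfterFT.DihedralSquare
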