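import Cfsg.Agent.Lib.AfterFT.DihedralSquare.Typical

/-!
The conjugates of the transvection in the automizer of a typical essential subgroup.
-/

set_option autoImplicit false
set_option linter.unusedSectionVars false

namespace CfsgLib.AfterFT.DihedralSquare

open Cfsg Cfsg.FusionSystem Subgroup

universe u
variable {G : Type u} [Group G] [Finite G] {P : Sylow 2 G} {E : Subgroup G}

/-- A `2`-group of automorphisms normalised by `Aut_S(E)` lies in it. -/
theorem le_autInducedBy_of_normalized (hn : (groupFusionSystem (P : Subgroup G)).IsFullyNormalized E)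
    (B : Subgroup (MulAut E)) (hB : B ≤ (groupFusionSystem (P : Subgroup G)).autGroup E) (hBp : IsPGroup 2 B)
    (hN : autInducedBy (P : Subgroup G) E ≤ normalizer (B : Set (MulAut E))) :
    B ≤ autInducedBy (P : Subgroup G) E := by
  haveI : Fact (Nat.Prime 2) := ⟨Nat.prime_two⟩
  set F := groupFusionSystem (P : Subgroup G)
  obtain ⟨hES, T, hT⟩ := (groupFusionSystem_isSaturated P).isFullyAutomized_of_isFullyNormalized P.2 hn
  set T₀ := autInducedBy (P : Subgroup G) E
  have hT₀ : T₀ ≤ F.autGroup E := autInducedBy_le_autGroup hES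
  have hsup : IsPGroup 2 ↥(B ⊔ T₀) := IsPGroup.to_sup_of_normal_left' hBp (isPGroup_autInducedBy P.2) hN
  have hle : (T : Subgroup (F.autGroup E)) ≤ (B ⊔ T₀).subgroupOf (F.autGroup E) := by
    rw [hT]; exact fun a ha => mem_sup_right ha
  have heq := T.3 (hsup.of_equiv (subgroupOfEquivOfLe (sup_le hB hT₀)).symm) hle
  intro b hb
  have : (⟨b, hB hb⟩ : F.autGroup E) ∈ (B ⊔ T₀).subgroupOf (F.autGroup E) := mem_subgroupOf.mpr (mem_sup_left hb)
  rw [heq, hT] at this
  exact this

/-- An automorphism trivial above and below a subgroup of order `2` is induced by `S`. -/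
theorem conjAut_mem_induced_of_trans (hn : (groupFusionSystem (P : Subgroup G)).IsFullyNormalized E) {z k : G}
    (hz : z ∈ E) (hz2 : z * z = 1) (hzc : ∀ s ∈ (P : Subgroup G), z * s = s * z)
    (hk : k ∈ normalizer (E : Set G)) (hkz : MulAut.conj k z = z) (hkT : IsTrans E k z) :
    conjAut hk ∈ autInducedBy (P : Subgroup G) E := by
  haveI : Fact (Nat.Prime 2) := ⟨Nat.prime_two⟩
  set F := groupFusionSystem (P : Subgroup G)
  have hES := hn.1
  let ζ : E := ⟨z, hz⟩
  have hζc : ∀ e : E, e * ζ = ζ * e := fun e => Subtype.ext (hzc _ (hES e.2)).symm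
  have hζ : ∀ c ∈ zpowers ζ, c = 1 ∨ c = ζ := by
    intro c hc
    obtain ⟨i, rfl⟩ := mem_zpowers_iff.mp hc
    have h2 : ζ ^ (2 : ℤ) = 1 := by rw [zpow_two]; exact Subtype.ext hz2
    rcases Int.even_or_odd i with ⟨j, rfl⟩ | ⟨j, rfl⟩
    · left; rw [← two_mul, zpow_mul, h2, one_zpow]
    · right; rw [zpow_add, zpow_mul, h2, one_zpow, one_mul, zpow_one]
  haveI : (zpowers ζ).Normal := ⟨fun c hc g => by
    rcases hζ c hc with rfl | rfl
    · simp
    · rw [hζc g, mul_inv_cancel_right]; exact hc⟩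
  let B : Subgroup (MulAut E) :=
    { carrier := {a | a ∈ F.autGroup E ∧ a ζ = ζ ∧ ∀ e, e⁻¹ * a e ∈ zpowers ζ}
      one_mem' := ⟨one_mem _, rfl, fun e => by simp⟩
      mul_mem' := by
        rintro a b ⟨ha, haz, hae⟩ ⟨hb, hbz, hbe⟩
        refine ⟨mul_mem ha hb, by rw [MulAut.mul_apply, hbz, haz], fun e => ?_⟩
        have := mul_mem (hbe e) (hae (b e))
        simpa [MulAut.mul_apply, mul_assoc] using this
      inv_mem' := by
        rintro a ⟨ha, haz, hae⟩
        refine ⟨inv_mem ha, ?_, fun e => ?_⟩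
        · conv_lhs => rw [← haz]
          simp
        · have := Subgroup.inv_mem _ (hae (a⁻¹ e))
          simpa using this }
  have hfix : ∀ a ∈ B, ∀ c ∈ zpowers ζ, a c = c := by
    intro a ha c hc
    rcases hζ c hc with rfl | rfl
    exacts [map_one a, ha.2.1]
  have hBp : IsPGroup 2 B := by
    refine isPGroup_of_stabilises (P.2.to_le hES) (n := 2) ![⊥, zpowers ζ, ⊤] rfl rfl B fun a ha i x hx => ?_
    fin_cases i
    · show x⁻¹ * a x ∈ (⊥ : Subgroup E)
      rw [mem_bot, hfix a ha x hx, inv_mul_cancel]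
    · exact ha.2.2 x
  refine le_autInducedBy_of_normalized hn B (fun a ha => ha.1) hBp ?_ ⟨conjAut_mem hES hk, Subtype.ext hkz, fun e => ?_⟩
  · intro s hs
    obtain ⟨g, hg, hgN, hge⟩ := mem_autInducedBy_iff.mp hs
    have hsz : s ζ = ζ := Subtype.ext (by rw [hge, ← hzc g hg, mul_inv_cancel_right])
    have key : ∀ u : MulAut E, u ∈ F.autGroup E → u ζ = ζ → ∀ a ∈ B, u * a * u⁻¹ ∈ B := by
      intro u hu huz a ha
      have huz' : u⁻¹ ζ = ζ := by conv_lhs => rw [← huz]; simp
      refine ⟨mul_mem (mul_mem hu ha.1) (inv_mem hu), ?_, fun e => ?_⟩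
      · rw [MulAut.mul_apply, MulAut.mul_apply, huz', ha.2.1, huz]
      · have h1 := ha.2.2 (u⁻¹ e)
        have h2 : u ((u⁻¹ e)⁻¹ * a (u⁻¹ e)) ∈ zpowers ζ := by
          rcases hζ _ h1 with e' | e' <;> rw [e']
          · rw [map_one]; exact one_mem _
          · rw [huz]; exact mem_zpowers _
        simpa [MulAut.mul_apply] using h2
    have hsA : s ∈ F.autGroup E := autInducedBy_le_autGroup hES hs
    refine mem_normalizer_iff.mpr fun a => ⟨key s hsA hsz a, fun ha => ?_⟩
    have := key s⁻¹ (inv_mem hsA) (by conv_lhs => rw [← hsz]; simp) _ ha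
    simpa [mul_assoc] using this
  · have he : ((e⁻¹ * conjAut hk e : E) : G) = (e : G)⁻¹ * MulAut.conj k (e : G) := rfl
    rcases hkT e e.2 with h | h
    · have : e⁻¹ * conjAut hk e = 1 := Subtype.ext (by rw [he, h, inv_mul_cancel]; rfl)
      rw [this]; exact one_mem _
    · have : e⁻¹ * conjAut hk e = ζ := Subtype.ext (by rw [he, h, inv_mul_cancel_left])
      rw [this]; exact mem_zpowers _

/-- The restriction of conjugation by `N(E)` to `Ω₁(Z(E))`. -/
def resU (E : Subgroup G) : ↥(normalizer (E : Set G)) →* MulAut ↥(omegaZ E) :=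
  (omegaZ E).normalizerMonoidHom.comp (inclusion fun _ hg => mem_normalizer_fintype fun _ ha => omegaZ_conj hg ha)

theorem conj_inv_conj (g a : G) : MulAut.conj g⁻¹ (MulAut.conj g a) = a := by
  rw [← MulAut.mul_apply, ← map_mul, inv_mul_cancel, map_one, MulAut.one_apply]

theorem resU_apply {g : G} (hg : g ∈ normalizer (E : Set G)) (a : ↥(omegaZ E)) :
    ((resU E ⟨g, hg⟩ a : omegaZ E) : G) = MulAut.conj g (a : G) := rfl

namespace Typical

variable {fr : Frame (P : Subgroup G)} {t : G} (h : Typical fr E t)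
include h

theorem exists_conj (g : G) (hg : g ∈ normalizer (E : Set G)) :
    g * fr.x * g⁻¹ ∈ normalizer (E : Set G) :=
  mul_mem (mul_mem hg h.x_mem.2) (inv_mem hg)

theorem trans_conj {g : G} (hg : g ∈ normalizer (E : Set G)) :
    IsTrans E (g * fr.x * g⁻¹) (MulAut.conj g fr.z) := by
  intro a ha
  have ha' : MulAut.conj g⁻¹ a ∈ E := (mem_normalizer_iff.mp (inv_mem hg) a).mp ha
  have e : MulAut.conj (g * fr.x * g⁻¹) a = MulAut.conj g (MulAut.conj fr.x (MulAut.conj g⁻¹ a)) := by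
    rw [map_mul, map_mul, MulAut.mul_apply, MulAut.mul_apply]
  have e2 : MulAut.conj g (MulAut.conj g⁻¹ a) = a := by rw [← MulAut.mul_apply, ← map_mul, mul_inv_cancel, map_one, MulAut.one_apply]
  rcases h.x_trans ha' with ⟨-, hx⟩ | ⟨-, hx⟩
  · right; rw [e, hx, map_mul, e2]
  · left; rw [e, hx, e2]

theorem conj_fix {g : G} : MulAut.conj (g * fr.x * g⁻¹) (MulAut.conj g fr.z) = MulAut.conj g fr.z := by
  rw [map_mul, map_mul, MulAut.mul_apply, MulAut.mul_apply, conj_inv_conj, h.x_fix_z]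

theorem conj_moves {g : G} (hg : g ∈ normalizer (E : Set G)) :
    MulAut.conj g t ∈ omegaZ E ∧
      MulAut.conj (g * fr.x * g⁻¹) (MulAut.conj g t) = MulAut.conj g t * MulAut.conj g fr.z := by
  refine ⟨omegaZ_conj hg h.t_mem_U, ?_⟩
  rw [map_mul, map_mul, MulAut.mul_apply, MulAut.mul_apply, conj_inv_conj, h.x_moves_t, map_mul]

theorem w_ne_one (g : G) : MulAut.conj g fr.z ≠ 1 := fun e =>
  fr.z_ne_one ((MulEquiv.map_eq_one_iff _).mp e)

theorem conj_involutive {g : G} (hg : g ∈ normalizer (E : Set G)) {a : G} (ha : a ∈ omegaZ E) :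
    MulAut.conj (g * fr.x * g⁻¹) (MulAut.conj (g * fr.x * g⁻¹) a) = a := by
  rcases h.trans_conj hg a ha.1 with e | e
  · rw [e, e]
  · rw [e, map_mul, e, h.conj_fix, mul_assoc, (omegaZ_conj hg h.z_mem_U).2.1, mul_one]

/-- Two commuting elements acting as involutions on `Ω₁(Z(E))` act alike. -/
theorem eq_of_commute {k l : G} (hk : k ∈ normalizer (E : Set G)) (hl : l ∈ normalizer (E : Set G))
    (hk2 : ∀ a ∈ omegaZ E, MulAut.conj k (MulAut.conj k a) = a)
    (hl2 : ∀ a ∈ omegaZ E, MulAut.conj l (MulAut.conj l a) = a)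
    (hcom : ∀ a ∈ omegaZ E, MulAut.conj k (MulAut.conj l a) = MulAut.conj l (MulAut.conj k a))
    (hk1 : ∃ a ∈ omegaZ E, MulAut.conj k a ≠ a) (hl1 : ∃ a ∈ omegaZ E, MulAut.conj l a ≠ a) :
    ∀ a ∈ omegaZ E, MulAut.conj k a = MulAut.conj l a := by
  haveI : Fact (Nat.Prime 2) := ⟨Nat.prime_two⟩
  set N := normalizer (E : Set G) with hN
  set ρ := resU E with hρ
  obtain ⟨R, hR⟩ := (isSylowIn_iff h.sylowIn.1).mp h.sylowIn
  let Rb : Sylow 2 ρ.range := R.mapSurjective ρ.rangeRestrict_surjective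
  set K : MulAut ↥(omegaZ E) := ρ ⟨k, hk⟩ with hK
  set L : MulAut ↥(omegaZ E) := ρ ⟨l, hl⟩ with hL
  have hK2 : K * K = 1 := MulEquiv.ext fun a => Subtype.ext (hk2 a a.2)
  have hL2 : L * L = 1 := MulEquiv.ext fun a => Subtype.ext (hl2 a a.2)
  have hKL : K * L = L * K := MulEquiv.ext fun a => Subtype.ext (hcom a a.2)
  have hK1 : K ≠ 1 := fun e => by
    obtain ⟨a, ha, hne⟩ := hk1
    exact hne (congrArg (fun f : MulAut ↥(omegaZ E) => ((f ⟨a, ha⟩ : omegaZ E) : G)) e)
  have hL1 : L ≠ 1 := fun e => by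
    obtain ⟨a, ha, hne⟩ := hl1
    exact hne (congrArg (fun f : MulAut ↥(omegaZ E) => ((f ⟨a, ha⟩ : omegaZ E) : G)) e)
  let K' : ρ.range := ⟨K, _, rfl⟩
  let L' : ρ.range := ⟨L, _, rfl⟩
  have hp : ∀ {c : ρ.range}, c * c = 1 → IsPGroup 2 (zpowers c) := by
    intro c hc
    rintro ⟨d, hd⟩
    obtain ⟨i, rfl⟩ := mem_zpowers_iff.mp hd
    refine ⟨1, Subtype.ext ?_⟩
    show (c ^ i) ^ 2 = 1
    rw [← zpow_natCast, ← zpow_mul, mul_comm, zpow_mul, zpow_natCast, pow_two, hc, one_zpow]
  have hKL' : K' * L' = L' * K' := Subtype.ext hKL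
  have hnorm : zpowers L' ≤ normalizer ((zpowers K' : Subgroup ρ.range) : Set ρ.range) := by
    rw [zpowers_le, mem_normalizer_iff]
    intro c
    have hc : Commute L' K' := hKL'.symm
    constructor
    · intro hcK
      obtain ⟨i, rfl⟩ := mem_zpowers_iff.mp hcK
      rw [(hc.zpow_right i).eq, mul_inv_cancel_right]; exact hcK
    · intro hcK
      obtain ⟨i, hi⟩ := mem_zpowers_iff.mp hcK
      refine ⟨i, ?_⟩
      show K' ^ i = c
      calc K' ^ i = L'⁻¹ * (L' * K' ^ i) := by rw [inv_mul_cancel_left]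
        _ = L'⁻¹ * (K' ^ i * L') := by rw [(hc.zpow_right i).eq]
        _ = c := by rw [hi]; group
  obtain ⟨m, hm⟩ := exists_conj_mem_sylow Rb
    (IsPGroup.to_sup_of_normal_left' (hp (Subtype.ext hK2)) (hp (Subtype.ext hL2)) hnorm)
  have hRb : ∀ c ∈ (Rb : Subgroup ρ.range), (c : MulAut ↥(omegaZ E)) = 1 ∨
      (c : MulAut ↥(omegaZ E)) = ρ ⟨fr.x, h.x_mem.2⟩ := by
    rintro c ⟨s, hs, rfl⟩
    have hs' : (s : G) ∈ normalizerIn (P : Subgroup G) E := by
      have hs2 : s ∈ (R : Subgroup N) := hs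
      rw [hR] at hs2
      exact hs2
    by_cases hall : (s : G) ∈ E
    · left
      exact MulEquiv.ext fun a => Subtype.ext (mul_inv_eq_iff_eq_mul.mpr (a.2.2.2 _ hall).symm)
    · right
      have hxs := (h.normalizerIn_mem hs').resolve_left hall
      refine MulEquiv.ext fun a => Subtype.ext ?_
      have h1 : MulAut.conj (fr.x⁻¹ * (s : G)) (a : G) = a := mul_inv_eq_iff_eq_mul.mpr (a.2.2.2 _ hxs).symm
      show MulAut.conj (s : G) (a : G) = MulAut.conj fr.x (a : G)
      rw [← congrArg (MulAut.conj fr.x) h1, ← MulAut.mul_apply, ← map_mul, mul_inv_cancel_left]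
  have key : ∀ c ∈ zpowers K' ⊔ zpowers L', c ≠ 1 →
      (m * c * m⁻¹ : ρ.range) = ⟨ρ ⟨fr.x, h.x_mem.2⟩, _, rfl⟩ := by
    intro c hc hc1
    rcases hRb _ (hm c hc) with e | e
    · exact absurd (conj_eq_one_iff.mp (Subtype.ext e)) hc1
    · exact Subtype.ext e
  have h1 := key K' (mem_sup_left (mem_zpowers _)) (fun e => hK1 (congrArg Subtype.val e))
  have h2 := key L' (mem_sup_right (mem_zpowers _)) (fun e => hL1 (congrArg Subtype.val e))
  have h3 : K' = L' := mul_left_cancel (mul_right_cancel (h1.trans h2.symm))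
  intro a ha
  exact congrArg (fun f : ρ.range => (((f : MulAut ↥(omegaZ E)) ⟨a, ha⟩ : omegaZ E) : G)) h3

/-- If the conjugate transvection agrees with the one of `S`, then `g` extends. -/
theorem extendable_of_eq {g : G} (hg : g ∈ normalizer (E : Set G))
    (heq : ∀ a ∈ omegaZ E, MulAut.conj (g * fr.x * g⁻¹) a = MulAut.conj fr.x a) :
    conjAut hg ∈ extendableAut (groupFusionSystem (P : Subgroup G)) E := by
  haveI : Fact (Nat.Prime 2) := ⟨Nat.prime_two⟩
  have hx := h.x_mem
  set k := g * fr.x * g⁻¹ with hk'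
  have hk : k ∈ normalizer (E : Set G) := h.exists_conj g hg
  have hw : MulAut.conj g fr.z = fr.z := by
    have e := heq t h.t_mem_U
    rw [h.x_moves_t] at e
    rcases h.trans_conj hg t h.t_mem_U.1 with e' | e' <;> rw [e'] at e
    · exact absurd (mul_eq_left.mp e.symm) fr.z_ne_one
    · exact mul_left_cancel e
  have hkT : IsTrans E k fr.z := hw ▸ h.trans_conj hg
  have hkz : MulAut.conj k fr.z = fr.z := by
    have := h.conj_fix (g := g)
    rwa [hw] at this
  have hind := conjAut_mem_induced_of_trans h.ess.2.1 h.z_mem_U.1 fr.z_mul_z (fun s hs => fr.z_comm hs) hk hkz hkT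
  have hsat := groupFusionSystem_isSaturated P
  refine mem_extendableAut_of_conj (hsat.isReceptive_of_isFullyNormalized P.2 h.ess.2.1) (conjAut_mem h.le hg)
    (conjAut_mem_induced hx) (not_mem_inn h.ess.1.centralizerIn_le_self h.le hx h.x_notMem) ?_
  rw [← conjAut_inv hg, ← conjAut_mul, ← conjAut_mul]
  exact hind

/-- Either `g` extends or its transvection moves the centre of that of `S`. -/
theorem extendable_or_moves {g : G} (hg : g ∈ normalizer (E : Set G)) :
    conjAut hg ∈ extendableAut (groupFusionSystem (P : Subgroup G)) E ∨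
      (fr.IsRefl (fr.pr (MulAut.conj g fr.z)) ∧ MulAut.conj (g * fr.x * g⁻¹) fr.z = fr.z * MulAut.conj g fr.z) := by
  set w := MulAut.conj g fr.z with hw
  set k := g * fr.x * g⁻¹ with hk'
  have hk : k ∈ normalizer (E : Set G) := h.exists_conj g hg
  have hzU := h.z_mem_U
  have hwU : w ∈ omegaZ E := omegaZ_conj hg hzU
  have hkT : IsTrans (omegaZ E) k w := fun a ha => h.trans_conj hg a ha.1
  rcases h.x_trans hwU.1 with ⟨hr, hxw⟩ | ⟨-, hxw⟩
  · right
    refine ⟨hr, (h.trans_conj hg fr.z hzU.1).resolve_left fun hkz => ?_⟩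
    exact fr.z_ne_one (both_or_none h.noSwap hk h.x_mem.2 hwU hzU hwU.2.1 fr.z_mul_z omegaZ_comm
      h.x_isTrans h.conj_fix h.x_fix_z ⟨_, h.conj_moves hg⟩ hxw hkz)
  · left
    refine h.extendable_of_eq hg ?_
    have hkz : MulAut.conj k fr.z = fr.z := by
      refine (h.trans_conj hg fr.z hzU.1).resolve_right fun hkz => ?_
      exact h.w_ne_one g (both_or_none h.noSwap h.x_mem.2 hk hzU hwU fr.z_mul_z hwU.2.1 omegaZ_comm
        hkT h.x_fix_z h.conj_fix ⟨t, h.t_mem_U, h.x_moves_t⟩ hkz hxw)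
    refine h.eq_of_commute hk h.x_mem.2 (fun a ha => h.conj_involutive hg ha) (fun a ha => ?_)
      (fun a ha => trans_commute omegaZ_comm hwU hzU hkT h.x_isTrans hkz hxw ha)
      ⟨_, (h.conj_moves hg).1, fun e => h.w_ne_one g (mul_eq_left.mp ((h.conj_moves hg).2.symm.trans e))⟩
      ⟨t, h.t_mem_U, fun e => fr.z_ne_one (mul_eq_left.mp (h.x_moves_t.symm.trans e))⟩
    have := h.conj_involutive (g := 1) (one_mem _) ha
    simpa using this

/-- The braid: a suitable product with `g` extends. -/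
theorem extendable_braid {g : G} (hg : g ∈ normalizer (E : Set G))
    (hr : fr.IsRefl (fr.pr (MulAut.conj g fr.z)))
    (hkz : MulAut.conj (g * fr.x * g⁻¹) fr.z = fr.z * MulAut.conj g fr.z) :
    ∃ hd : g * fr.x * g⁻¹ * fr.x * g ∈ normalizer (E : Set G),
      conjAut hd ∈ extendableAut (groupFusionSystem (P : Subgroup G)) E := by
  set k := g * fr.x * g⁻¹ with hk'
  have hk : k ∈ normalizer (E : Set G) := h.exists_conj g hg
  have hwU : MulAut.conj g fr.z ∈ omegaZ E := omegaZ_conj hg h.z_mem_U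
  have hxw : MulAut.conj fr.x (MulAut.conj g fr.z) = MulAut.conj g fr.z * fr.z := by
    rcases h.x_trans hwU.1 with ⟨-, e⟩ | ⟨hn, -⟩
    exacts [e, absurd hr hn]
  refine ⟨mul_mem (mul_mem hk h.x_mem.2) hg, h.extendable_of_eq _ fun a ha => ?_⟩
  have hkk : ∀ b ∈ omegaZ E, MulAut.conj k (MulAut.conj k b) = b := fun b hb => h.conj_involutive hg hb
  have hxx : ∀ b ∈ omegaZ E, MulAut.conj fr.x (MulAut.conj fr.x b) = b := fun b hb => by
    have := h.conj_involutive (g := 1) (one_mem _) hb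
    simpa using this
  have hinv : ∀ (c : G) (hc : c ∈ normalizer (E : Set G)),
      (∀ b ∈ omegaZ E, MulAut.conj c (MulAut.conj c b) = b) → ∀ b ∈ omegaZ E, MulAut.conj c⁻¹ b = MulAut.conj c b := by
    intro c hc hcc b hb
    conv_lhs => rw [← hcc b hb, conj_inv_conj]
  have hkU : MulAut.conj k a ∈ omegaZ E := omegaZ_conj hk ha
  rw [show k * fr.x * g * fr.x * (k * fr.x * g)⁻¹ = k * fr.x * k * fr.x⁻¹ * k⁻¹ by rw [hk']; group,
    map_mul, MulAut.mul_apply, hinv k hk hkk a ha, map_mul, MulAut.mul_apply, hinv fr.x h.x_mem.2 hxx _ hkU]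
  have hb := omegaZ_conj h.x_mem.2 hkU
  have hbr : ∀ c ∈ omegaZ E, MulAut.conj (k * fr.x * k) c = MulAut.conj (fr.x * k * fr.x) c := fun c hc =>
    braid omegaZ_comm h.z_mem_U hwU fr.z_mul_z hwU.2.1 h.x_isTrans (fun b hb => h.trans_conj hg b hb.1)
      h.x_fix_z h.conj_fix hkz hxw hc
  rw [hbr _ hb, map_mul, map_mul, MulAut.mul_apply, MulAut.mul_apply, hxx _ hkU, hkk a ha]

/-- The moved centres differ by `z` only. -/
theorem centre_unique {g g' : G} (hg : g ∈ normalizer (E : Set G)) (hg' : g' ∈ normalizer (E : Set G))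
    (hr : fr.IsRefl (fr.pr (MulAut.conj g fr.z))) (hr' : fr.IsRefl (fr.pr (MulAut.conj g' fr.z))) :
    MulAut.conj g' fr.z = MulAut.conj g fr.z ∨ MulAut.conj g' fr.z = fr.z * MulAut.conj g fr.z := by
  set w := MulAut.conj g fr.z with hw
  set v := MulAut.conj g' fr.z with hv
  set k := g * fr.x * g⁻¹ with hk'
  set l := g' * fr.x * g'⁻¹ with hl'
  have hk : k ∈ normalizer (E : Set G) := h.exists_conj g hg
  have hl : l ∈ normalizer (E : Set G) := h.exists_conj g' hg'
  have hzU := h.z_mem_U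
  have hwU : w ∈ omegaZ E := omegaZ_conj hg hzU
  have hvU : v ∈ omegaZ E := omegaZ_conj hg' hzU
  have moves : ∀ {f : G} (hf : f ∈ normalizer (E : Set G)), fr.IsRefl (fr.pr (MulAut.conj f fr.z)) →
      MulAut.conj (f * fr.x * f⁻¹) fr.z = fr.z * MulAut.conj f fr.z ∧
        MulAut.conj fr.x (MulAut.conj f fr.z) = MulAut.conj f fr.z * fr.z := by
    intro f hf hfr
    have hfU := omegaZ_conj hf hzU
    rcases h.x_trans hfU.1 with ⟨-, e⟩ | ⟨hn, -⟩
    · refine ⟨(h.trans_conj hf fr.z hzU.1).resolve_left fun hz => ?_, e⟩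
      exact fr.z_ne_one (both_or_none h.noSwap (h.exists_conj f hf) h.x_mem.2 hfU hzU hfU.2.1 fr.z_mul_z
        omegaZ_comm h.x_isTrans h.conj_fix h.x_fix_z ⟨_, h.conj_moves hf⟩ e hz)
    · exact absurd hfr hn
  obtain ⟨hkz, hxw⟩ := moves hg hr
  obtain ⟨hlz, hxv⟩ := moves hg' hr'
  have hkT : IsTrans (omegaZ E) k w := fun a ha => h.trans_conj hg a ha.1
  have hlT : IsTrans (omegaZ E) l v := fun a ha => h.trans_conj hg' a ha.1
  have hkne : ∃ a ∈ omegaZ E, MulAut.conj k a ≠ a :=
    ⟨_, hzU, fun e => h.w_ne_one g (mul_eq_left.mp (hkz.symm.trans e))⟩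
  have hlne : ∃ a ∈ omegaZ E, MulAut.conj l a ≠ a :=
    ⟨_, hzU, fun e => h.w_ne_one g' (mul_eq_left.mp (hlz.symm.trans e))⟩
  rcases hkT v hvU with hkv | hkv
  · -- they commute
    have hlw : MulAut.conj l w = w := by
      refine (hlT w hwU).resolve_right fun e => ?_
      exact h.w_ne_one g' (both_or_none h.noSwap hk hl hwU hvU hwU.2.1 hvU.2.1 omegaZ_comm hlT h.conj_fix
        h.conj_fix ⟨_, h.conj_moves hg⟩ e hkv)
    have := h.eq_of_commute hk hl (fun a ha => h.conj_involutive hg ha) (fun a ha => h.conj_involutive hg' ha)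
      (fun a ha => trans_commute omegaZ_comm hwU hvU hkT hlT hkv hlw ha) hkne hlne fr.z hzU
    rw [hkz, hlz] at this
    exact Or.inl (mul_left_cancel this).symm
  · have hlw : MulAut.conj l w = w * v := by
      refine (hlT w hwU).resolve_left fun e => ?_
      exact h.w_ne_one g (both_or_none h.noSwap hl hk hvU hwU hvU.2.1 hwU.2.1 omegaZ_comm hkT h.conj_fix
        h.conj_fix ⟨_, h.conj_moves hg'⟩ hkv e)
    right
    set u := fr.z * w with hu
    have huU : u ∈ omegaZ E := mul_mem hzU hwU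
    set y := k * fr.x * k with hy
    have hyE : y ∈ normalizer (E : Set G) := mul_mem (mul_mem hk h.x_mem.2) hk
    have hy' : ∀ a, MulAut.conj y a = MulAut.conj k (MulAut.conj fr.x (MulAut.conj k a)) := fun a => by
      rw [hy, map_mul, map_mul, MulAut.mul_apply, MulAut.mul_apply]
    have hyT : IsTrans (omegaZ E) y u := by
      intro a ha
      have hka : MulAut.conj k a ∈ omegaZ E := omegaZ_conj hk ha
      rcases h.x_isTrans _ hka with e | e
      · left; rw [hy', e, h.conj_involutive hg ha]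
      · right; rw [hy', e, map_mul, h.conj_involutive hg ha, hkz]
    have hyv : MulAut.conj y v = v := by
      have e : MulAut.conj fr.x (v * w) = v * w := by
        rw [map_mul, hxv, hxw]
        calc v * fr.z * (w * fr.z) = v * (fr.z * w) * fr.z := by group
          _ = v * w * (fr.z * fr.z) := by rw [omegaZ_comm fr.z hzU w hwU]; group
          _ = v * w := by rw [fr.z_mul_z, mul_one]
      rw [hy', hkv, e, map_mul, hkv, h.conj_fix, mul_assoc, hwU.2.1, mul_one]
    have hlu : MulAut.conj l u = u := by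
      rw [hu, map_mul, hlz, hlw]
      calc fr.z * v * (w * v) = fr.z * (v * w) * v := by group
        _ = fr.z * w * (v * v) := by rw [omegaZ_comm v hvU w hwU]; group
        _ = fr.z * w := by rw [hvU.2.1, mul_one]
    have hy2 : ∀ a ∈ omegaZ E, MulAut.conj y (MulAut.conj y a) = a := fun a ha => by
      have hka := omegaZ_conj hk ha
      have hxka := omegaZ_conj h.x_mem.2 hka
      rw [hy', hy', h.conj_involutive hg hxka]
      have hxx := h.conj_involutive (g := 1) (one_mem _) hka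
      simp only [one_mul, inv_one, mul_one] at hxx
      rw [hxx, h.conj_involutive hg ha]
    have hmove := h.conj_moves hg
    have hyne : ∃ a ∈ omegaZ E, MulAut.conj y a ≠ a := by
      obtain ⟨a, ha, hax⟩ : ∃ a ∈ omegaZ E, MulAut.conj fr.x a = a * fr.z := ⟨t, h.t_mem_U, h.x_moves_t⟩
      refine ⟨MulAut.conj k a, omegaZ_conj hk ha, fun e => ?_⟩
      rw [hy', h.conj_involutive hg ha, hax, map_mul, mul_eq_left] at e
      exact fr.z_ne_one ((MulEquiv.map_eq_one_iff _).mp e)
    have := h.eq_of_commute hyE hl hy2 (fun a ha => h.conj_involutive hg' ha)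
      (fun a ha => trans_commute omegaZ_comm huU hvU hyT hlT hyv hlu ha) hyne hlne _ (h.conj_moves hg').1
    rw [(h.conj_moves hg').2] at this
    rcases hyT _ (h.conj_moves hg').1 with e | e <;> rw [e] at this
    · exact absurd (mul_eq_left.mp this.symm) (h.w_ne_one g')
    · exact (mul_left_cancel this).symm

end Typical

end CfsgLib.AfterFT.DihedralSquare
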