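import Cfsg.Agent.Lib.AfterFT.DihedralSquare.Klein
import Cfsg.Agent.Lib.DihedralShape
import Mathlib.GroupTheory.SpecificGroups.Dihedral

/-!
Frames from dihedral direct factors, and the strongly closed factorisation.
-/

set_option autoImplicit false
set_option linter.unusedSectionVars false

namespace CfsgLib.AfterFT.DihedralSquare

open Cfsg Cfsg.FusionSystem Subgroup

universe u
variable {G : Type u} [Group G] [Finite G] {P : Sylow 2 G}

theorem exists_frame {D Q : Subgroup G} (h : IsInternalDirectProduct D Q (P : Subgroup G)) {l : ℕ} (hl : 0 < l)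
    (e : D ≃* DihedralGroup (4 * l)) : ∃ fr : Frame (P : Subgroup G), fr.D = D ∧ fr.Q = Q ∧ fr.l = l := by
  haveI : NeZero (4 * l) := ⟨by omega⟩
  let R : D := e.symm (DihedralGroup.r 1)
  let T : D := e.symm (DihedralGroup.sr 0)
  have hT2 : T * T = 1 := by rw [← map_mul, DihedralGroup.sr_mul_self, map_one]
  have hconj : T * R * T⁻¹ = R⁻¹ := by
    rw [← map_mul, ← map_inv, ← map_mul, ← map_inv]
    congr 1
    simp
  have hshape : ∀ d : D, d ∈ zpowers R ∨ T * d ∈ zpowers R := by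
    intro d
    have hpow : ∀ i : ZMod (4 * l), e.symm (DihedralGroup.r i) ∈ zpowers R := fun i => by
      refine ⟨(i.val : ℤ), ?_⟩
      show R ^ (i.val : ℤ) = _
      rw [zpow_natCast, ← map_pow, DihedralGroup.r_one_pow, ZMod.natCast_zmod_val]
    rw [← e.symm_apply_apply d]
    cases e d with
    | r i => exact Or.inl (hpow i)
    | sr i =>
      right
      rw [← map_mul, DihedralGroup.sr_mul_sr]
      exact hpow _
  have hTn : T ∉ zpowers R := fun hm => by
    obtain ⟨k, hk⟩ := mem_zpowers_iff.mp hm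
    have := congrArg e hk
    rw [map_zpow, e.apply_symm_apply, e.apply_symm_apply, DihedralGroup.r_one_zpow] at this
    cases this
  have hiff : ∀ d : G, d ∈ D ↔ d ∈ zpowers (R : G) ∨ (T : G) * d ∈ zpowers (R : G) := by
    intro d
    have hle : zpowers (R : G) ≤ D := zpowers_le.mpr R.2
    constructor
    · intro hd
      rcases hshape ⟨d, hd⟩ with h | h <;> obtain ⟨k, hk⟩ := mem_zpowers_iff.mp h
      · exact Or.inl ⟨k, by simpa using congrArg Subtype.val hk⟩
      · exact Or.inr ⟨k, by simpa using congrArg Subtype.val hk⟩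
    · rintro (h | h)
      · exact hle h
      · have := D.mul_mem (D.inv_mem T.2) (hle h)
        rwa [inv_mul_cancel_left] at this
  refine ⟨{ D := D, Q := Q, r := R, s := T, l := l, prod := h, l_pos := hl, order_r := ?_, s_sq := ?_,
            conj_r := ?_, s_notMem := ?_, mem_iff := hiff }, rfl, rfl, rfl⟩
  · rw [Subgroup.orderOf_coe, MulEquiv.orderOf_eq, DihedralGroup.orderOf_r_one]
  · exact congrArg Subtype.val hT2
  · exact congrArg Subtype.val hconj
  · rintro ⟨k, hk⟩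
    exact hTn ⟨k, Subtype.ext (by simpa using hk)⟩

theorem Frame.equiv_dihedral (fr : Frame (P : Subgroup G)) : Nonempty (fr.D ≃* DihedralGroup (4 * fr.l)) := by
  let R : fr.D := ⟨fr.r, fr.r_mem⟩
  let T : fr.D := ⟨fr.s, fr.s_mem⟩
  have hord : orderOf R = 4 * fr.l := by rw [← fr.order_r, ← Subgroup.orderOf_coe]
  have hTn : T ∉ zpowers R := fun h => by
    obtain ⟨k, hk⟩ := mem_zpowers_iff.mp h
    exact fr.s_notMem ⟨k, by simpa using congrArg Subtype.val hk⟩
  have hmem : ∀ d : fr.D, d ∈ zpowers R ↔ (d : G) ∈ zpowers fr.r := fun d => by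
    constructor <;> rintro ⟨k, hk⟩
    · exact ⟨k, by simpa using congrArg Subtype.val hk⟩
    · exact ⟨k, Subtype.ext (by simpa using hk)⟩
  have hidx : (zpowers R).index = 2 := by
    rw [Subgroup.index_eq_two_iff]
    refine ⟨T, fun b => ?_⟩
    rw [hmem, hmem]
    by_cases hb : (b : G) ∈ zpowers fr.r
    · refine Or.inr ⟨hb, fun hbT => ?_⟩
      exact fr.s_notMem (by simpa using mul_mem (inv_mem hb) hbT)
    · refine Or.inl ⟨?_, hb⟩
      exact fr.refl_mul_refl ⟨b.2, hb⟩ fr.isRefl_s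
  refine CfsgLib.DihedralShape.equiv_dihedral hord ?_ (Subtype.ext fr.s_sq) hTn (Subtype.ext fr.conj_r)
  rw [← Subgroup.card_mul_index (zpowers R), hidx, Nat.card_zpowers, hord, mul_comm]

theorem four_dvd_of_dihedral {D : Subgroup G} (hD : D ≤ (P : Subgroup G)) {m : ℕ} (hm : 2 ≤ m)
    (e : D ≃* DihedralGroup m) : m = 2 ∨ ∃ l, 0 < l ∧ m = 4 * l := by
  haveI : Fact (Nat.Prime 2) := ⟨Nat.prime_two⟩
  obtain ⟨k, hk⟩ := (P.2.to_le hD).exists_card_eq
  rw [Nat.card_congr e.toEquiv, DihedralGroup.nat_card] at hk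
  rcases k with _ | _ | _ | k
  · omega
  · omega
  · left; omega
  · exact Or.inr ⟨2 ^ k, pow_pos two_pos k, by rw [pow_succ, pow_succ, pow_succ] at hk; omega⟩

theorem klein_sq (x : DihedralGroup 2) : x * x = 1 := by
  cases x with
  | r i =>
    rw [DihedralGroup.r_mul_r, DihedralGroup.one_def]
    congr 1
    revert i
    decide
  | sr i => exact DihedralGroup.sr_mul_self i

theorem exists_factorisation_aux (hres : Cfsg.pResidual 2 G = ⊤) {D₁ D₂ : Subgroup G}
    (hD : IsInternalDirectProduct D₁ D₂ (P : Subgroup G)) {l : ℕ} (hl : 0 < l) (e : D₁ ≃* DihedralGroup (4 * l))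
    (hD₂ : ∃ m : ℕ, 2 ≤ m ∧ Nonempty (↥D₂ ≃* DihedralGroup m)) :
    ∃ S₁ S₂ : Subgroup G, IsInternalDirectProduct S₁ S₂ (P : Subgroup G) ∧
      IsStronglyClosed S₁ (P : Subgroup G) ∧ IsStronglyClosed S₂ (P : Subgroup G) ∧
      (∃ m : ℕ, 2 ≤ m ∧ Nonempty (↥S₁ ≃* DihedralGroup m)) ∧
      (∃ m : ℕ, 2 ≤ m ∧ Nonempty (↥S₂ ≃* DihedralGroup m)) := by
  obtain ⟨fr, hfD, hfQ, -⟩ := exists_frame hD hl e
  have hdih : ∀ A : Frame (P : Subgroup G), ∃ m : ℕ, 2 ≤ m ∧ Nonempty (↥A.D ≃* DihedralGroup m) := fun A =>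
    ⟨4 * A.l, by have := A.l_pos; omega, A.equiv_dihedral⟩
  obtain ⟨m, hm, ⟨e'⟩⟩ := hD₂
  rcases four_dvd_of_dihedral hD.2.1 hm e' with rfl | ⟨l', hl', rfl⟩
  · have hQ2 : ∀ q ∈ fr.Q, q * q = 1 := by
      rw [hfQ]
      intro q hq
      exact congrArg Subtype.val (e'.injective (show e' (⟨q, hq⟩ * ⟨q, hq⟩) = e' 1 by rw [map_mul, map_one, klein_sq]))
    obtain ⟨A, T, hprod, hA, hT, ⟨eT⟩⟩ := fr.exists_closed_klein hQ2 hres
    exact ⟨A.D, T, hprod, hA, hT, hdih A, 2, le_rfl, ⟨eT.trans ((MulEquiv.subgroupCongr hfQ).trans e')⟩⟩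
  · obtain ⟨fr', hfD', hfQ', -⟩ := exists_frame (isInternalDirectProduct_symm hD) hl' e'
    obtain ⟨A, B, hAB, hA, hB⟩ := fr.exists_closed fr' (hfD'.trans hfQ.symm) (hfQ'.trans hfD.symm) hres
    exact ⟨A.D, B.D, hAB ▸ A.prod, hA, hB, hdih A, hdih B⟩

theorem exists_factorisation (hres : Cfsg.pResidual 2 G = ⊤) (hS : ¬ IsMulCommutative ↥(P : Subgroup G))
    {D₁ D₂ : Subgroup G} (hD : IsInternalDirectProduct D₁ D₂ (P : Subgroup G))
    (hD₁ : ∃ m : ℕ, 2 ≤ m ∧ Nonempty (↥D₁ ≃* DihedralGroup m))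
    (hD₂ : ∃ m : ℕ, 2 ≤ m ∧ Nonempty (↥D₂ ≃* DihedralGroup m)) :
    ∃ S₁ S₂ : Subgroup G, IsInternalDirectProduct S₁ S₂ (P : Subgroup G) ∧
      IsStronglyClosed S₁ (P : Subgroup G) ∧ IsStronglyClosed S₂ (P : Subgroup G) ∧
      (∃ m : ℕ, 2 ≤ m ∧ Nonempty (↥S₁ ≃* DihedralGroup m)) ∧
      (∃ m : ℕ, 2 ≤ m ∧ Nonempty (↥S₂ ≃* DihedralGroup m)) := by
  obtain ⟨m₁, hm₁, ⟨e₁⟩⟩ := hD₁
  obtain ⟨m₂, hm₂, ⟨e₂⟩⟩ := hD₂
  rcases four_dvd_of_dihedral hD.1 hm₁ e₁ with rfl | ⟨l, hl, rfl⟩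
  · rcases four_dvd_of_dihedral hD.2.1 hm₂ e₂ with rfl | ⟨l, hl, rfl⟩
    · exfalso
      apply hS
      have hsq : ∀ {K : Subgroup G}, (K ≃* DihedralGroup 2) → ∀ a ∈ K, a * a = 1 := fun {K} e a ha =>
        congrArg Subtype.val (e.injective (show e (⟨a, ha⟩ * ⟨a, ha⟩) = e 1 by rw [map_mul, map_one, klein_sq]))
      refine ⟨⟨fun a b => Subtype.ext ?_⟩⟩
      have hcomm : ∀ {K : Subgroup G}, (∀ a ∈ K, a * a = 1) → ∀ a ∈ K, ∀ b ∈ K, Commute a b := by
        intro K hK a ha b hb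
        have e : ∀ c ∈ K, c⁻¹ = c := fun c hc => inv_eq_of_mul_eq_one_left (hK c hc)
        have := e _ (K.mul_mem ha hb)
        rw [mul_inv_rev, e a ha, e b hb] at this
        exact this.symm
      have hc1 := hcomm (hsq e₁)
      have hc2 := hcomm (hsq e₂)
      have key : (P : Subgroup G) ≤ centralizer ((P : Subgroup G) : Set G) := by
        conv_lhs => rw [← hD.2.2.2.2]
        refine sup_le (fun d hd => ?_) (fun d hd => ?_) <;> rw [mem_centralizer_iff] <;> intro y hy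
        · have : (P : Subgroup G) ≤ centralizer {d} := by
            rw [← hD.2.2.2.2]
            exact sup_le (fun c hc => mem_centralizer_singleton_iff.mpr (hc1 c hc d hd).eq)
              (fun c hc => mem_centralizer_singleton_iff.mpr (hD.2.2.1 d hd c hc).symm)
          exact mem_centralizer_singleton_iff.mp (this hy)
        · have : (P : Subgroup G) ≤ centralizer {d} := by
            rw [← hD.2.2.2.2]
            exact sup_le (fun c hc => mem_centralizer_singleton_iff.mpr (hD.2.2.1 c hc d hd))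
              (fun c hc => mem_centralizer_singleton_iff.mpr (hc2 c hc d hd).eq)
          exact mem_centralizer_singleton_iff.mp (this hy)
      exact (mem_centralizer_iff.mp (key a.2) b b.2).symm
    · obtain ⟨S₁, S₂, h, h1, h2, h3, h4⟩ :=
        exists_factorisation_aux hres (isInternalDirectProduct_symm hD) hl e₂ ⟨2, le_rfl, ⟨e₁⟩⟩
      exact ⟨S₁, S₂, h, h1, h2, h3, h4⟩
  · exact exists_factorisation_aux hres hD hl e₁ ⟨m₂, hm₂, ⟨e₂⟩⟩

end CfsgLib.AfterFT.DihedralSquare
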