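import Cfsg.Agent.Lib.AfterFT.DihedralSquare.Movers

/-!
The complement through the movers is strongly closed.
-/

set_option autoImplicit false
set_option linter.unusedSectionVars false

namespace CfsgLib.AfterFT.DihedralSquare

open Cfsg Cfsg.FusionSystem Subgroup

universe u
variable {G : Type u} [Group G] [Finite G] {P : Sylow 2 G}

theorem Typical.moves {fr : Frame (P : Subgroup G)} {E : Subgroup G} {t g : G} (h : Typical fr E t)
    (hg : g ∈ normalizer (E : Set G)) (hr : fr.IsRefl (fr.pr (MulAut.conj g fr.z))) :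
    MulAut.conj (g * fr.x * g⁻¹) fr.z = fr.z * MulAut.conj g fr.z := by
  have hwU := omegaZ_conj hg h.z_mem_U
  rcases h.x_trans hwU.1 with ⟨-, e⟩ | ⟨hn, -⟩
  · refine (h.trans_conj hg fr.z h.z_mem_U.1).resolve_left fun hz => ?_
    exact fr.z_ne_one (both_or_none h.noSwap (h.exists_conj g hg) h.x_mem.2 hwU h.z_mem_U hwU.2.1 fr.z_mul_z
      omegaZ_comm h.x_isTrans h.conj_fix h.x_fix_z ⟨_, h.conj_moves hg⟩ e hz)
  · exact absurd hr hn

namespace Frame

variable (fr : Frame (P : Subgroup G))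

theorem centreD_mem {E : Subgroup G} (hE : (groupFusionSystem (P : Subgroup G)).IsEssential 2 E) : fr.z ∈ E :=
  hE.1.centralizerIn_le_self ⟨fr.D_le fr.z_mem, mem_centralizer_iff.mpr fun y hy => (fr.z_comm (hE.1.1 hy)).symm⟩

theorem D_le_closure : fr.D ≤ closure {q | q ∈ fr.D ∧ q * q = 1} := by
  have hr : fr.r ∈ closure {q | q ∈ fr.D ∧ q * q = 1} := by
    have h := fr.isRefl_mul (mem_zpowers fr.r) fr.isRefl_s
    have := mul_mem (subset_closure (show fr.s ∈ {q | q ∈ fr.D ∧ q * q = 1} from ⟨fr.s_mem, fr.s_sq⟩))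
      (subset_closure (show fr.s * fr.r ∈ {q | q ∈ fr.D ∧ q * q = 1} from ⟨h.1, fr.refl_sq h⟩))
    rwa [← mul_assoc, fr.s_sq, one_mul] at this
  intro d hd
  by_cases hd' : d ∈ zpowers fr.r
  · exact zpowers_le.mpr hr hd'
  · exact subset_closure ⟨hd, fr.refl_sq ⟨hd, hd'⟩⟩

/-- A relation holding along fusion. -/
theorem rel_fusion (hother : fr.OtherTypical) (Rel : G → G → Prop) (hsymm : ∀ {a b}, Rel a b → Rel b a)
    (htrans : ∀ {a b c}, Rel a b → Rel b c → Rel a c)
    (hinner : ∀ s ∈ (P : Subgroup G), ∀ a ∈ (P : Subgroup G), Rel a (s * a * s⁻¹))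
    (hodd : ∀ g ∈ normalizer ((P : Subgroup G) : Set G), Odd (orderOf g) →
      ∀ a ∈ (P : Subgroup G), Rel a (MulAut.conj g a))
    (hk : ∀ E t, Typical fr E t → ∀ g ∈ normalizer (E : Set G), fr.IsRefl (fr.pr (MulAut.conj g fr.z)) →
      ∀ a ∈ E, Rel a (MulAut.conj (g * fr.x * g⁻¹) a))
    (hk' : ∀ fr' : Frame (P : Subgroup G), fr'.D = fr.Q → fr'.Q = fr.D → ∀ E t, Typical fr' E t →
      ∀ g ∈ normalizer (E : Set G), fr'.IsRefl (fr'.pr (MulAut.conj g fr'.z)) →
      ∀ a ∈ E, Rel a (MulAut.conj (g * fr'.x * g⁻¹) a))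
    {a g : G} (ha : a ∈ (P : Subgroup G)) (hga : g * a * g⁻¹ ∈ (P : Subgroup G)) : Rel a (g * a * g⁻¹) := by
  refine rel_of_alperin Rel hsymm htrans hinner
    (fun g hg a ha => rel_normalizer (Rel := Rel) htrans hinner hodd hg ha) (fun E hE g hg => ?_) ha hga
  by_cases hQ : fr.Q ≤ E
  · obtain ⟨t, h⟩ := fr.typical_of_Q_le hE hQ
    exact h.alperin_step Rel hsymm htrans hinner (fun g hg hr _ => hk E t h g hg hr) g hg
  · obtain ⟨fr', t', hD, hQ', h⟩ := hother E hE hQ
    exact h.alperin_step Rel hsymm htrans hinner (fun g hg hr _ => hk' fr' hD hQ' E t' h g hg hr) g hg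

/-- A straight complement is strongly closed. -/
theorem isStronglyClosed_D (hsub : fr.Movers ⊆ fr.D) (hgen : fr.D ≤ closure fr.Movers) (hother : fr.OtherTypical)
    (hodd : ∀ g ∈ normalizer ((P : Subgroup G) : Set G), Odd (orderOf g) →
      ∀ a ∈ (P : Subgroup G), (a ∈ fr.D ↔ MulAut.conj g a ∈ fr.D)) :
    IsStronglyClosed fr.D (P : Subgroup G) := by
  refine ⟨fr.D_le, fun a ha g hga => ?_⟩
  refine (fr.rel_fusion hother (fun a b => a ∈ fr.D ↔ b ∈ fr.D) Iff.symm Iff.trans ?_ hodd ?_ ?_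
    (fr.D_le ha) hga).mp ha
  · intro s hs a _
    refine ⟨fr.conj_mem_D hs, fun h => ?_⟩
    simpa [mul_assoc] using fr.conj_mem_D (P.inv_mem hs) h
  · intro E t h g hg hr a ha
    have hw := hsub (fr.mem_movers h hg hr)
    rcases h.trans_conj hg a ha with e | e <;> rw [e]
    exact (fr.D.mul_mem_cancel_right hw).symm
  · intro fr' hD hQ E' t' h' g' hg' hr' a ha
    set l := g' * fr'.x * g'⁻¹ with hl
    have hfix : ∀ d ∈ fr.D, MulAut.conj l d = d := by
      intro d hd
      induction hgen hd using closure_induction with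
      | mem w hw =>
        obtain ⟨E, t, g, h, hg, rfl, hr, -⟩ := fr.movers_spec hw
        exact (cross_fix hD hQ h h' hg hg' hr hr' (h.moves hg hr)).2
      | one => exact map_one _
      | mul b c hb hc ihb ihc =>
        have hle : closure fr.Movers ≤ fr.D := (closure_le _).mpr hsub
        rw [map_mul, ihb (hle hb), ihc (hle hc)]
      | inv b hb ihb =>
        have hle : closure fr.Movers ≤ fr.D := (closure_le _).mpr hsub
        rw [map_inv, ihb (hle hb)]
    refine ⟨fun h => by rw [hfix a h]; exact h, fun h => ?_⟩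
    have e := (MulAut.conj l).injective (hfix _ h)
    rwa [e] at h

end Frame

end CfsgLib.AfterFT.DihedralSquare
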