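import Cfsg.Agent.Lib.AfterFT.DihedralSquare.Fusion

/-!
The transvections belonging to the two factors commute.
-/

set_option autoImplicit false
set_option linter.unusedSectionVars false

namespace CfsgLib.AfterFT.DihedralSquare

open Cfsg Cfsg.FusionSystem Subgroup

universe u
variable {G : Type u} [Group G] [Finite G] {P : Sylow 2 G}

namespace Frame

variable (fr : Frame (P : Subgroup G))

theorem pr_eq_of_complement (fr' : Frame (P : Subgroup G)) (hD : fr'.D = fr.Q) (hQ : fr'.Q = fr.D) {g : G}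
    (hg : g ∈ (P : Subgroup G)) : g = fr.pr g * fr'.pr g := by
  obtain ⟨d, hd, q, hq, rfl⟩ := fr.exists_decomp hg
  have h' : fr'.pr (q * d) = q := fr'.pr_eq (hD.ge hq) (hQ.ge hd)
  rw [← fr.commute_DQ hd hq] at h'
  rw [fr.pr_eq hd hq, h']

/-- A normalizing element squares into the centralizer of the projection of an elementary abelian group. -/
theorem sq_commute_pr {A : Subgroup G} (hA : A ≤ (P : Subgroup G)) (hA2 : ∀ a ∈ A, a * a = 1)
    (hAc : ∀ a ∈ A, ∀ b ∈ A, a * b = b * a) {s : G} (hs : s ∈ normalizerIn (P : Subgroup G) A) {a : G}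
    (ha : a ∈ A) : fr.pr s * fr.pr s * fr.pr a = fr.pr a * (fr.pr s * fr.pr s) := by
  have hsS := hs.1
  have haS := hA ha
  have hd := fr.pr_mem hsS
  have hc : fr.pr a * fr.pr a = 1 := by rw [← fr.pr_mul haS haS, hA2 a ha, fr.pr_one]
  have hdd := mul_mem hd hd
  by_cases hr : fr.pr a ∈ zpowers fr.r
  · rcases fr.eq_z_of_sq hr hc with h | h <;> rw [h]
    · simp
    · exact fr.z_comm_D hdd
  have ht : fr.IsRefl (fr.pr a) := ⟨fr.pr_mem haS, hr⟩
  have ha' : s * a * s⁻¹ ∈ A := (mem_normalizer_iff.mp hs.2 a).mp ha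
  have h1 : fr.InV (fr.pr a) (fr.pr s * fr.pr a * (fr.pr s)⁻¹) := by
    rw [← fr.pr_conj hsS haS]
    refine fr.inV_of_commute ht (fr.pr_mem (hA ha')) ?_
    rw [← fr.pr_mul (hA ha') haS, ← fr.pr_mul haS (hA ha'), hAc _ ha' a ha]
  exact fr.inV_comm ht (fr.inV_normalizing_sq ht hd h1) (Or.inr (Or.inr (Or.inl rfl)))

/-- Squares of normalizing elements centralize elementary abelian subgroups. -/
theorem noSwap_elementary (fr' : Frame (P : Subgroup G)) (hD : fr'.D = fr.Q) (hQ : fr'.Q = fr.D)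
    {A : Subgroup G} (hA : A ≤ (P : Subgroup G)) (hA2 : ∀ a ∈ A, a * a = 1) :
    NoSwap (normalizer (A : Set G)) A := by
  haveI : Fact (Nat.Prime 2) := ⟨Nat.prime_two⟩
  obtain ⟨h, hB, hsyl⟩ := exists_conj_isSylowIn P hA
  set B : Subgroup G := A.map (MulAut.conj h : G ≃* G).toMonoidHom with hB'
  have hB2 : ∀ b ∈ B, b * b = 1 := by
    rintro _ ⟨a, ha, rfl⟩
    rw [← map_mul, hA2 a ha, map_one]
  have hBc : ∀ a ∈ B, ∀ b ∈ B, a * b = b * a := fun a ha b hb => by
    have e : ∀ c ∈ B, c⁻¹ = c := fun c hc => inv_eq_of_mul_eq_one_left (hB2 c hc)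
    have := e _ (B.mul_mem ha hb)
    rw [mul_inv_rev, e a ha, e b hb] at this
    exact this.symm
  have hNB : NoSwap (normalizer (B : Set G)) B := by
    refine noSwap_of_sylow hsyl (fun n hn a ha => (mem_normalizer_iff.mp hn a).mp ha) fun s hs a ha => ?_
    have hsS := hs.1
    have haS := hB ha
    have h1 := fr.sq_commute_pr hB hB2 hBc hs ha
    have h2 := fr'.sq_commute_pr hB hB2 hBc hs ha
    rw [← fr.pr_mul hsS hsS] at h1
    rw [← fr'.pr_mul hsS hsS] at h2
    have hss := P.mul_mem hsS hsS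
    have c1 := fr.commute_DQ (fr.pr_mem hss) (hD.le (fr'.pr_mem haS))
    have c2 := fr.commute_DQ (fr.pr_mem haS) (hD.le (fr'.pr_mem hss))
    rw [fr.pr_eq_of_complement fr' hD hQ hss, fr.pr_eq_of_complement fr' hD hQ haS]
    calc fr.pr (s * s) * fr'.pr (s * s) * (fr.pr a * fr'.pr a)
        = fr.pr (s * s) * (fr'.pr (s * s) * fr.pr a) * fr'.pr a := by group
      _ = fr.pr (s * s) * fr.pr a * (fr'.pr (s * s) * fr'.pr a) := by rw [← c2]; group
      _ = fr.pr a * (fr.pr (s * s) * fr'.pr a) * fr'.pr (s * s) := by rw [h1, h2]; group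
      _ = fr.pr a * fr'.pr a * (fr.pr (s * s) * fr'.pr (s * s)) := by rw [c1]; group
  intro k hk a ha b hb h1 h2
  refine (MulAut.conj h).injective (hNB (h * k * h⁻¹) ?_ _ ⟨a, ha, rfl⟩ _ ⟨b, hb, rfl⟩ ?_ ?_)
  · rw [hB', ← Subgroup.map_normalizer_eq_of_bijective A (MulEquiv.bijective (MulAut.conj h))]
    exact ⟨k, hk, rfl⟩
  · rw [← h1]; simp [mul_assoc]
  · rw [← h2]; simp [mul_assoc]

end Frame

namespace Typical

variable {fr : Frame (P : Subgroup G)} {E : Subgroup G} {t : G} (h : Typical fr E t)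
include h

theorem pr_conj_refl_z {g a : G} (hg : g ∈ normalizer (E : Set G)) (ha : a ∈ E) :
    MulAut.conj (g * fr.x * g⁻¹) (a * a) = a * a := by
  have hb : MulAut.conj g⁻¹ a ∈ E := (mem_normalizer_iff.mp (inv_mem hg) a).mp ha
  have e : MulAut.conj g⁻¹ (a * a) = MulAut.conj g⁻¹ a * MulAut.conj g⁻¹ a := map_mul _ _ _
  have h1 : MulAut.conj fr.x (MulAut.conj g⁻¹ (a * a)) = MulAut.conj g⁻¹ (a * a) := by
    rcases h.x_trans (e ▸ E.mul_mem hb hb : MulAut.conj g⁻¹ (a * a) ∈ E) with ⟨hr, -⟩ | ⟨-, hx⟩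
    · exfalso
      rw [e, fr.pr_mul (h.le hb) (h.le hb), fr.inV_sq h.refl ((h.mem _).mp hb).2] at hr
      exact hr.2 (one_mem _)
    · exact hx
  rw [map_mul MulAut.conj (g * fr.x) g⁻¹, map_mul MulAut.conj g fr.x, MulAut.mul_apply, MulAut.mul_apply, h1,
    ← MulAut.mul_apply, ← map_mul MulAut.conj g g⁻¹, mul_inv_cancel, map_one MulAut.conj, MulAut.one_apply]

theorem Q_le : fr.Q ≤ E := fun q hq => (h.mem q).mpr ⟨fr.Q_le hq, by rw [fr.pr_of_mem_Q hq]; exact Or.inl rfl⟩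

/-- Elements of `Ω₁(Z(E))` have central component in the other factor. -/
theorem pr_other {fr' : Frame (P : Subgroup G)} (hD : fr'.D = fr.Q) {u : G} (hu : u ∈ omegaZ E) :
    fr'.pr u = 1 ∨ fr'.pr u = fr'.z := by
  have huS := h.le hu.1
  have hc : ∀ d ∈ fr'.D, d * fr'.pr u = fr'.pr u * d := fun d hd =>
    (fr'.commute_iff_pr hd huS).mp (hu.2.2 d (h.Q_le (hD.le hd))).symm
  have hrot : fr'.pr u ∈ zpowers fr'.r := by
    refine fr'.rot_of_commute fr'.x_mem_rot fr'.x_sq_ne_one (fr'.pr_mem huS) (hc _ fr'.x_mem).symm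
  exact fr'.eq_z_of_sq hrot (by rw [← fr'.pr_mul huS huS, hu.2.1, fr'.pr_one])

end Typical

/-- A transvection of one factor fixes the centres of those of the other. -/
theorem cross_fix {fr fr' : Frame (P : Subgroup G)} (hD : fr'.D = fr.Q) (hQ : fr'.Q = fr.D) {E E' : Subgroup G}
    {t t' : G} (h : Typical fr E t) (h' : Typical fr' E' t') {g g' : G} (hg : g ∈ normalizer (E : Set G))
    (hg' : g' ∈ normalizer (E' : Set G)) (hr : fr.IsRefl (fr.pr (MulAut.conj g fr.z)))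
    (hr' : fr'.IsRefl (fr'.pr (MulAut.conj g' fr'.z)))
    (hm : MulAut.conj (g * fr.x * g⁻¹) fr.z = fr.z * MulAut.conj g fr.z) :
    MulAut.conj (g' * fr'.x * g'⁻¹) fr.z = fr.z ∧
      MulAut.conj (g' * fr'.x * g'⁻¹) (MulAut.conj g fr.z) = MulAut.conj g fr.z := by
  set w := MulAut.conj g fr.z with hw
  set u := MulAut.conj g' fr'.z with hu
  set k := g * fr.x * g⁻¹ with hk'
  set l := g' * fr'.x * g'⁻¹ with hl'
  have hxE' : fr.x ∈ E' := h'.Q_le (hQ.ge fr.x_mem)
  have hlz : MulAut.conj l fr.z = fr.z := by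
    rw [← fr.x_mul_x]; exact h'.pr_conj_refl_z hg' hxE'
  refine ⟨hlz, ?_⟩
  set A := E ⊓ E' with hA
  have hA2 : ∀ a ∈ A, a * a = 1 := by
    rintro a ⟨ha, ha'⟩
    have haS := h.le ha
    rw [fr.pr_eq_of_complement fr' hD hQ (P.mul_mem haS haS), fr.pr_mul haS haS, fr'.pr_mul haS haS,
      fr.inV_sq h.refl ((h.mem a).mp ha).2, fr'.inV_sq h'.refl ((h'.mem a).mp ha').2, one_mul]
  have hAc : ∀ a ∈ A, ∀ b ∈ A, a * b = b * a := fun a ha b hb => by
    have e : ∀ c ∈ A, c⁻¹ = c := fun c hc => inv_eq_of_mul_eq_one_left (hA2 c hc)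
    have := e _ (A.mul_mem ha hb)
    rw [mul_inv_rev, e a ha, e b hb] at this
    exact this.symm
  have hNS := fr.noSwap_elementary fr' hD hQ (inf_le_left.trans h.le : A ≤ (P : Subgroup G)) hA2
  have hwU : w ∈ omegaZ E := omegaZ_conj hg h.z_mem_U
  have huU : u ∈ omegaZ E' := omegaZ_conj hg' h'.z_mem_U
  have mem' : ∀ a ∈ omegaZ E, a ∈ A := fun a ha => ⟨ha.1, (h'.mem a).mpr ⟨h.le ha.1, by
    rcases h.pr_other hD ha with e | e <;> rw [e]
    exacts [Or.inl rfl, Or.inr (Or.inl rfl)]⟩⟩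
  have mem'' : ∀ a ∈ omegaZ E', a ∈ A := fun a ha => ⟨(h.mem a).mpr ⟨h'.le ha.1, by
    rcases h'.pr_other (fr' := fr) hQ.symm ha with e | e <;> rw [e]
    exacts [Or.inl rfl, Or.inr (Or.inl rfl)]⟩, ha.1⟩
  have hzA := mem' _ h.z_mem_U
  have hz'A := mem'' _ h'.z_mem_U
  have hwA := mem' _ hwU
  have huA := mem'' _ huU
  have hkN : k ∈ normalizer (A : Set G) := by
    refine mem_normalizer_fintype fun a ha => ?_
    rcases h.trans_conj hg a ha.1 with e | e <;> rw [MulAut.conj_apply] at e <;> rw [e]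
    · exact ha
    · exact A.mul_mem ha hwA
  have hlN : l ∈ normalizer (A : Set G) := by
    refine mem_normalizer_fintype fun a ha => ?_
    rcases h'.trans_conj hg' a ha.2 with e | e <;> rw [MulAut.conj_apply] at e <;> rw [e]
    · exact ha
    · exact A.mul_mem ha huA
  have hxN : fr.x ∈ normalizer (A : Set G) := by
    refine mem_normalizer_fintype fun a ha => ?_
    rcases h.x_trans ha.1 with ⟨-, e⟩ | ⟨-, e⟩ <;> rw [MulAut.conj_apply] at e <;> rw [e]
    · exact A.mul_mem ha hzA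
    · exact ha
  have hkw : MulAut.conj k w = w := h.conj_fix
  have hlu : MulAut.conj l u = u := h'.conj_fix
  have hkT : IsTrans A k w := fun a ha => h.trans_conj hg a ha.1
  refine (h'.trans_conj hg' w hwA.2).resolve_right fun hlw => ?_
  have hku : MulAut.conj k u = u * w := by
    refine (hkT u huA).resolve_left fun hku => ?_
    exact h'.w_ne_one g' (both_or_none hNS hkN hlN hwA huA hwU.2.1 huU.2.1 hAc
      (fun a ha => h'.trans_conj hg' a ha.2) hkw hlu ⟨_, hzA, hm⟩ hlw hku)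
  have hxw : MulAut.conj fr.x w = w * fr.z := by
    rcases h.x_trans hwU.1 with ⟨-, e⟩ | ⟨hn, -⟩
    exacts [e, absurd hr hn]
  have hxu : MulAut.conj fr.x u = u := by
    rcases h.x_trans huA.1 with ⟨hru, -⟩ | ⟨-, e⟩
    · exfalso
      rcases h'.pr_other (fr' := fr) hQ.symm huU with e | e <;> rw [e] at hru
      exacts [(fr.refl_ne hru).1 rfl, (fr.refl_ne hru).2 rfl]
    · exact e
  have hzu := no_triangle hNS hxN hlN hkN hzA huA hwA fr.z_mul_z huU.2.1 hwU.2.1 hAc h.x_fix_z hxu hlz hlu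
    hkw hm hku hxw hlw
  refine hr'.2 ?_
  rw [← hzu, fr'.pr_of_mem_Q (hQ.ge fr.z_mem)]
  exact one_mem _

end CfsgLib.AfterFT.DihedralSquare
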