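import Cfsg.Agent.Lib.Fusion.Alperin
import Cfsg.Agent.Lib.Fusion.Group
import Cfsg.Agent.Lib.Fusion.Series
import Cfsg.Agent.Lib.Fusion.EssentialSmall.Basic
import Cfsg.Agent.Lib.Fusion.MetaType.Main
import Mathlib.Tactic.Group

/-!
Tools for essential subgroups in groups: the Frattini quotient, and elements acting as transvections.
-/

set_option autoImplicit false
set_option linter.unusedSectionVars false

namespace CfsgLib.AfterFT.DihedralSquare

open Cfsg Cfsg.FusionSystem Subgroup

universe u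
variable {G : Type u} [Group G]

/-- Conjugation by an element of the normalizer, as an automorphism. -/
def conjAut {E : Subgroup G} {g : G} (hg : g ∈ normalizer (E : Set G)) : MulAut E :=
  E.normalizerMonoidHom ⟨g, hg⟩

theorem conjAut_apply {E : Subgroup G} {g : G} (hg : g ∈ normalizer (E : Set G)) (e : E) :
    ((conjAut hg e : E) : G) = g * e * g⁻¹ := rfl

theorem conjAut_mul {E : Subgroup G} {g h : G} (hg : g ∈ normalizer (E : Set G))
    (hh : h ∈ normalizer (E : Set G)) : conjAut (mul_mem hg hh) = conjAut hg * conjAut hh :=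
  map_mul E.normalizerMonoidHom ⟨g, hg⟩ ⟨h, hh⟩

theorem conjAut_inv {E : Subgroup G} {g : G} (hg : g ∈ normalizer (E : Set G)) :
    conjAut (inv_mem hg) = (conjAut hg)⁻¹ :=
  map_inv E.normalizerMonoidHom ⟨g, hg⟩

variable [Finite G] {P : Sylow 2 G} {E : Subgroup G}

theorem conjAut_mem (hE : E ≤ P) {g : G} (hg : g ∈ normalizer (E : Set G)) :
    conjAut hg ∈ (groupFusionSystem (P : Subgroup G)).autGroup E := by
  rw [autGroup_groupFusionSystem hE]
  exact mem_autInducedBy_iff.mpr ⟨g, trivial, hg, fun _ => rfl⟩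

theorem exists_conjAut (hE : E ≤ P) {α : MulAut E}
    (hα : α ∈ (groupFusionSystem (P : Subgroup G)).autGroup E) :
    ∃ g, ∃ hg : g ∈ normalizer (E : Set G), α = conjAut hg := by
  rw [autGroup_groupFusionSystem hE] at hα
  obtain ⟨g, -, hg, he⟩ := mem_autInducedBy_iff.mp hα
  exact ⟨g, hg, MulEquiv.ext fun e => Subtype.ext (he e)⟩

theorem conjAut_mem_induced {x : G} (hx : x ∈ normalizerIn (P : Subgroup G) E) :
    conjAut hx.2 ∈ autInducedBy (P : Subgroup G) E :=
  mem_autInducedBy_iff.mpr ⟨x, hx.1, hx.2, fun _ => rfl⟩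

theorem not_mem_inn (hC : centralizerIn (P : Subgroup G) E ≤ E) (hE : E ≤ P) {x : G}
    (hx : x ∈ normalizerIn (P : Subgroup G) E) (hxE : x ∉ E) : conjAut hx.2 ∉ Inn E := by
  rintro ⟨u, hu⟩
  apply hxE
  have hc : (u : G)⁻¹ * x ∈ centralizerIn (P : Subgroup G) E := by
    refine ⟨P.mul_mem (P.inv_mem (hE u.2)) hx.1, mem_centralizer_iff.mpr fun y hy => ?_⟩
    have h1 : (u : G) * y * (u : G)⁻¹ = x * y * x⁻¹ :=
      congrArg (fun f : MulAut E => ((f ⟨y, hy⟩ : E) : G)) hu
    calc y * ((u : G)⁻¹ * x) = (u : G)⁻¹ * ((u : G) * y * (u : G)⁻¹) * x := by group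
      _ = (u : G)⁻¹ * x * y := by rw [h1]; group
  have := E.mul_mem u.2 (hC hc)
  rwa [mul_inv_cancel_left] at this

/-- A group of automorphisms of a `2`-group with two invariant steps above the Frattini subgroup is a `2`-group. -/
theorem isPGroup_two_step {X : Type u} [Group X] [Finite X] (hX : IsPGroup 2 X) (A : Subgroup (MulAut X))
    (M : Subgroup X) (h1 : ∀ a ∈ A, ∀ e, e⁻¹ * a e ∈ M) (h2 : ∀ a ∈ A, ∀ m ∈ M, m⁻¹ * a m ∈ frattini X) :
    IsPGroup 2 A := by
  haveI : Fact (Nat.Prime 2) := ⟨Nat.prime_two⟩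
  haveI : Finite (MulAut X) := Finite.of_injective (fun α : MulAut X => (α : X → X)) DFunLike.coe_injective
  rintro ⟨a, ha⟩
  obtain ⟨k, o, ho, hk⟩ := Nat.exists_eq_two_pow_mul_odd (orderOf_pos a).ne'
  refine ⟨k, Subtype.ext ?_⟩
  show a ^ 2 ^ k = 1
  set b := a ^ 2 ^ k with hb
  have hbA : b ∈ A := pow_mem ha _
  have hbo : b ^ o = 1 := by rw [hb, ← pow_mul, ← hk, pow_orderOf_eq_one]
  have hsq : ∀ e : X, (QuotientGroup.mk ((b ^ 2) e) : X ⧸ frattini X) = QuotientGroup.mk e := by
    intro e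
    symm
    rw [QuotientGroup.eq]
    have hm := h1 b hbA e
    have hm2 := h2 b hbA _ hm
    set m := e⁻¹ * b e with hm'
    have e1 : e⁻¹ * (b ^ 2) e = m ^ 2 * (m⁻¹ * b m) := by
      rw [pow_two b, MulAut.mul_apply, pow_two, hm', map_mul, map_inv]; group
    rw [e1]
    exact mul_mem (CfsgLib.pow_mem_frattini_pGroup hX m) hm2
  have h2o : (orderOf (b ^ 2)).Coprime 2 := by
    have : orderOf (b ^ 2) ∣ o := orderOf_dvd_of_pow_eq_one (by rw [← pow_mul, mul_comm, pow_mul, hbo, one_pow])
    exact Nat.Coprime.coprime_dvd_left this ho.coprime_two_right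
  have hb2 : b ^ 2 = 1 := Cfsg.MetaType.eq_one_of_trivial_mod_frattini hX h2o hsq
  obtain ⟨j, rfl⟩ := ho
  rwa [pow_succ, pow_mul, hb2, one_pow, one_mul] at hbo

/-- In an essential subgroup some conjugate of the centre of a transvection is moved modulo Frattini. -/
theorem exists_moved_mod_frattini (hE : (groupFusionSystem (P : Subgroup G)).IsEssential 2 E) {x : G}
    (hx : x ∈ normalizerIn (P : Subgroup G) E) (hxE : x ∉ E) {c : G} (hc : c ∈ E)
    (hL : ∀ e ∈ E, x * e * x⁻¹ * e⁻¹ ∈ zpowers c) :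
    ∃ g ∈ normalizer (E : Set G),
      x * (g * c * g⁻¹) * x⁻¹ * (g * c * g⁻¹)⁻¹ ∉ (frattini E).map E.subtype := by
  haveI : Fact (Nat.Prime 2) := ⟨Nat.prime_two⟩
  set F := groupFusionSystem (P : Subgroup G) with hF
  have hsat := groupFusionSystem_isSaturated P
  have hES : E ≤ P := hE.1.1
  by_contra hcon
  push Not at hcon
  have hE2 : IsPGroup 2 E := P.2.to_le hES
  set Φ := frattini E with hΦ
  let T : Set E := {e | ∃ g, ∃ hg : g ∈ normalizer (E : Set G), e = conjAut hg ⟨c, hc⟩}
  set M : Subgroup E := Φ ⊔ closure T with hM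
  have hΦM : Φ ≤ M := le_sup_left
  have hMT : closure T ≤ M := le_sup_right
  have hcom : ∀ a b : E, a * b * a⁻¹ * b⁻¹ ∈ Φ := fun a b =>
    CfsgLib.commutator_le_frattini_pGroup hE2 (commutator_mem_commutator (mem_top a) (mem_top b))
  haveI hMn : M.Normal := ⟨fun n hn g => by
    have : g * n * g⁻¹ = (g * n * g⁻¹ * n⁻¹) * n := by group
    rw [this]; exact mul_mem (hΦM (hcom g n)) hn⟩
  let A : Subgroup (F.autGroup E) :=
    { carrier := {a | (∀ e, e⁻¹ * (a : MulAut E) e ∈ M) ∧ ∀ m ∈ M, m⁻¹ * (a : MulAut E) m ∈ Φ}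
      one_mem' := ⟨fun e => by simp, fun m _ => by simp⟩
      mul_mem' := by
        intro a b ha hb
        refine ⟨fun e => ?_, fun m hm => ?_⟩
        · have := M.mul_mem (hb.1 e) (ha.1 ((b : MulAut E) e))
          simpa [MulAut.mul_apply, mul_assoc] using this
        · have hbm : (b : MulAut E) m ∈ M := by
            have := M.mul_mem hm (hb.1 m)
            rwa [mul_inv_cancel_left] at this
          have := Φ.mul_mem (hb.2 m hm) (ha.2 _ hbm)
          simpa [MulAut.mul_apply, mul_assoc] using this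
      inv_mem' := by
        intro a ha
        refine ⟨fun e => ?_, fun m hm => ?_⟩
        · have := M.inv_mem (ha.1 ((a : MulAut E)⁻¹ e))
          simpa using this
        · have h1 : (a : MulAut E)⁻¹ m ∈ M := by
            have := M.mul_mem hm (M.inv_mem (ha.1 ((a : MulAut E)⁻¹ m)))
            simpa using this
          have := Φ.inv_mem (ha.2 _ h1)
          simpa using this }
  have hMinv : ∀ b : F.autGroup E, ∀ m ∈ M, (b : MulAut E) m ∈ M := by
    intro b m hm
    have hle : M ≤ M.comap (b : MulAut E).toMonoidHom := by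
      refine sup_le (fun y hy => hΦM ?_) ((closure_le _).mpr ?_)
      · exact (Subgroup.characteristic_iff_le_comap.mp inferInstance (b : MulAut E)) hy
      · rintro _ ⟨g, hg, rfl⟩
        obtain ⟨k, hk, hbk⟩ := exists_conjAut hES b.2
        refine hMT (subset_closure ⟨k * g, mul_mem hk hg, ?_⟩)
        rw [conjAut_mul hk hg, MulAut.mul_apply, ← hbk]
        rfl
    exact hle hm
  have hAn : A.Normal := by
    refine ⟨fun a ha b => ⟨fun e => ?_, fun m hm => ?_⟩⟩
    · have := hMinv b _ (ha.1 ((b : MulAut E)⁻¹ e))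
      simpa [MulAut.mul_apply] using this
    · have h1 := (Subgroup.characteristic_iff_le_comap.mp (inferInstance : Φ.Characteristic) (b : MulAut E))
        (ha.2 _ (hMinv b⁻¹ m hm))
      simpa [MulAut.mul_apply] using h1
  have hAp : IsPGroup 2 A := by
    refine IsPGroup.of_equiv ?_ (A.equivMapOfInjective _ (F.autGroup E).subtype_injective).symm
    refine isPGroup_two_step hE2 _ M ?_ ?_ <;> rintro _ ⟨a, ha, rfl⟩
    exacts [ha.1, ha.2]
  let a : F.autGroup E := ⟨conjAut hx.2, autInducedBy_le_autGroup hES (conjAut_mem_induced hx)⟩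
  haveI : Finite E := inferInstance
  haveI : Φ.Normal := inferInstance
  have key : ∀ e : E, (x * (e : G) * x⁻¹ * (e : G)⁻¹ ∈ Φ.map E.subtype) → e⁻¹ * conjAut hx.2 e ∈ Φ := by
    intro e ⟨d, hd, hde⟩
    have h1 : conjAut hx.2 e * e⁻¹ = d := Subtype.ext (by simpa [conjAut_apply] using hde.symm)
    have := (inferInstance : Φ.Normal).conj_mem d hd e⁻¹
    rw [← h1] at this
    simpa [mul_assoc] using this
  have haA : a ∈ A := by
    refine ⟨fun e => ?_, fun m hm => ?_⟩
    · obtain ⟨k, hk⟩ := mem_zpowers_iff.mp (hL e e.2)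
      have hcM : (⟨c, hc⟩ : E) ∈ M := hMT (subset_closure ⟨1, one_mem _, Subtype.ext (by simp [conjAut_apply])⟩)
      have h1 : conjAut hx.2 e * e⁻¹ = (⟨c, hc⟩ : E) ^ k := Subtype.ext (by simpa [conjAut_apply] using hk.symm)
      have := hMn.conj_mem _ (zpow_mem hcM k) e⁻¹
      rw [← h1] at this
      show e⁻¹ * conjAut hx.2 e ∈ M
      simpa [mul_assoc] using this
    · let K : Subgroup E :=
        { carrier := {m | m⁻¹ * conjAut hx.2 m ∈ Φ}
          one_mem' := by simp
          mul_mem' := fun {u v} hu hv => by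
            have := Φ.mul_mem ((inferInstance : Φ.Normal).conj_mem _ hu v⁻¹) hv
            simpa [mul_assoc] using this
          inv_mem' := fun {u} hu => by
            have := Φ.inv_mem ((inferInstance : Φ.Normal).conj_mem _ hu u)
            simpa [mul_assoc] using this }
      have hMK : M ≤ K := by
        refine sup_le (fun y hy => Φ.mul_mem (Φ.inv_mem hy) ?_) ((closure_le _).mpr ?_)
        · exact (Subgroup.characteristic_iff_le_comap.mp inferInstance (conjAut hx.2)) hy
        · rintro _ ⟨g, hg, rfl⟩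
          exact key _ (hcon g hg)
      exact hMK hm
  obtain ⟨u, hu⟩ := (hE.isRadical P.2 hsat).2.le ⟨a, CfsgLib.le_pCore hAp haA, rfl⟩
  exact not_mem_inn hE.1.centralizerIn_le_self hES hx hxE ⟨u, hu⟩

/-- `k` acts on `A` as a transvection with centre `w`. -/
def IsTrans (A : Subgroup G) (k w : G) : Prop :=
  ∀ a ∈ A, MulAut.conj k a = a ∨ MulAut.conj k a = a * w

/-- No square of an element of `N` interchanges two elements of `A`. -/
def NoSwap (N A : Subgroup G) : Prop :=
  ∀ k ∈ N, ∀ a ∈ A, ∀ b ∈ A, MulAut.conj (k * k) a = b → MulAut.conj (k * k) b = a → a = b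

theorem noSwap_of_sylow {N T A : Subgroup G} (hT : IsSylowIn 2 T N) (hinv : ∀ n ∈ N, ∀ a ∈ A, n * a * n⁻¹ ∈ A)
    (hsq : ∀ s ∈ T, ∀ a ∈ A, s * s * a = a * (s * s)) : NoSwap N A := by
  haveI : Fact (Nat.Prime 2) := ⟨Nat.prime_two⟩
  intro k hk a ha b hb h1 h2
  obtain ⟨e, o, ho, he⟩ := Nat.exists_eq_two_pow_mul_odd (orderOf_pos k).ne'
  have hp : IsPGroup 2 (zpowers (k ^ o)) := IsPGroup.of_card (n := e) (by
    rw [Nat.card_zpowers, orderOf_pow_of_dvd ho.pos.ne' (he ▸ dvd_mul_left o _), he,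
      Nat.mul_div_cancel _ ho.pos])
  obtain ⟨n, hn, hnT⟩ := hT.exists_conj_le hp (zpowers_le.mpr (pow_mem hk o))
  have hc := hsq _ (hnT _ (mem_zpowers _)) _ (hinv n hn a ha)
  have hc' : MulAut.conj ((k * k) ^ o) a = a := by
    rw [MulAut.conj_apply, mul_inv_eq_iff_eq_mul, (Commute.refl k).mul_pow]
    refine mul_left_cancel (a := n) (mul_right_cancel (b := n⁻¹) ?_)
    simpa [mul_assoc] using hc
  obtain ⟨j, rfl⟩ := ho
  have cm : ∀ u v c : G, MulAut.conj (u * v) c = MulAut.conj u (MulAut.conj v c) := fun u v c => by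
    rw [map_mul, MulAut.mul_apply]
  have hit : ∀ i : ℕ, MulAut.conj ((k * k) ^ (2 * i)) a = a := by
    intro i
    induction i with
    | zero => simp
    | succ i ih =>
      rw [show 2 * (i + 1) = 2 * i + 1 + 1 by ring, pow_succ', pow_succ', cm (k * k), cm (k * k), ih, h1, h2]
  rw [pow_succ', cm (k * k), hit, h1] at hc'
  exact hc'.symm

variable {N A : Subgroup G}

/-- Two transvections fail to commute in both senses or in none. -/
theorem both_or_none (hA : NoSwap N A) {x k z w : G} (hx : x ∈ N) (hk : k ∈ N) (hz : z ∈ A) (hw : w ∈ A)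
    (hz2 : z * z = 1) (hw2 : w * w = 1) (hc : ∀ a ∈ A, ∀ b ∈ A, a * b = b * a) (hkT : IsTrans A k w)
    (hxz : MulAut.conj x z = z) (hkw : MulAut.conj k w = w) (hxa : ∃ a ∈ A, MulAut.conj x a = a * z)
    (hm : MulAut.conj k z = z * w) (hfix : MulAut.conj x w = w) : w = 1 := by
  obtain ⟨a, ha, hxa⟩ := hxa
  have hzw : z * w = w * z := hc z hz w hw
  have key : MulAut.conj (x * k * (x * k)) a = a * w := by
    simp only [map_mul, MulAut.mul_apply]
    rcases hkT a ha with e | e
    · rw [e, hxa, map_mul, e, hm, map_mul, map_mul, hxa, hxz, hfix, ← mul_assoc, mul_assoc a, hz2, mul_one]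
    · simp only [e, map_mul, hxa, hxz, hfix, hm, hkw]
      calc a * z * w * (z * w) * w = a * z * (w * z) * (w * w) := by group
        _ = a * (z * z) * w := by rw [← hzw, hw2, mul_one]; group
        _ = a * w := by rw [hz2, mul_one]
  have hw' : MulAut.conj (x * k * (x * k)) w = w := by
    simp only [map_mul, MulAut.mul_apply, hkw, hfix]
  have back : MulAut.conj (x * k * (x * k)) (a * w) = a := by
    rw [map_mul, key, hw', mul_assoc, hw2, mul_one]
  have := hA _ (mul_mem hx hk) a ha (a * w) (mul_mem ha hw) key back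
  exact left_eq_mul.mp this

/-- Two commuting transvections and a third one commuting with neither. -/
theorem no_triangle (hA : NoSwap N A) {x y k z u w : G} (hx : x ∈ N) (hy : y ∈ N) (hk : k ∈ N) (hz : z ∈ A)
    (hu : u ∈ A) (hw : w ∈ A) (hz2 : z * z = 1) (hu2 : u * u = 1) (hw2 : w * w = 1)
    (hc : ∀ a ∈ A, ∀ b ∈ A, a * b = b * a)
    (hxz : MulAut.conj x z = z) (hxu : MulAut.conj x u = u) (hyz : MulAut.conj y z = z)
    (hyu : MulAut.conj y u = u) (hkw : MulAut.conj k w = w) (hkz : MulAut.conj k z = z * w)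
    (hku : MulAut.conj k u = u * w) (hxw : MulAut.conj x w = w * z) (hyw : MulAut.conj y w = w * u) :
    z = u := by
  set p := x * y * k with hp
  have cp : ∀ c, MulAut.conj p c = MulAut.conj x (MulAut.conj y (MulAut.conj k c)) := fun c => by
    rw [hp, map_mul, map_mul, MulAut.mul_apply, MulAut.mul_apply]
  have h1 : MulAut.conj p z = w * u := by
    rw [cp, hkz, map_mul, hyz, hyw, map_mul, map_mul, hxz, hxw, hxu]
    calc z * (w * z * u) = z * w * z * u := by group
      _ = w * (z * z) * u := by rw [hc z hz w hw]; group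
      _ = w * u := by rw [hz2, mul_one]
  have h2 : MulAut.conj p (w * u) = u := by
    have e : MulAut.conj k (w * u) = u := by
      rw [map_mul, hkw, hku, hc u hu w hw, ← mul_assoc, hw2, one_mul]
    rw [cp, e, hyu, hxu]
  have h3 : MulAut.conj p u = w * z := by
    rw [cp, hku, map_mul, hyu, hyw, map_mul, map_mul, hxu, hxw]
    calc u * (w * z * u) = u * w * (z * u) := by group
      _ = w * u * (u * z) := by rw [hc u hu w hw, hc z hz u hu]
      _ = w * (u * u) * z := by group
      _ = w * z := by rw [hu2, mul_one]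
  have h4 : MulAut.conj p (w * z) = z := by
    have e : MulAut.conj k (w * z) = z := by
      rw [map_mul, hkw, hkz, hc z hz w hw, ← mul_assoc, hw2, one_mul]
    rw [cp, e, hyz, hxz]
  refine hA p (mul_mem (mul_mem hx hy) hk) z hz u hu ?_ ?_
  · rw [map_mul, MulAut.mul_apply, h1, h2]
  · rw [map_mul, MulAut.mul_apply, h3, h4]

/-- The braid relation of two transvections which commute in neither sense. -/
theorem braid (hc : ∀ a ∈ A, ∀ b ∈ A, a * b = b * a) {x k z w : G} (hz : z ∈ A) (hw : w ∈ A)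
    (hz2 : z * z = 1) (hw2 : w * w = 1) (hxT : IsTrans A x z) (hkT : IsTrans A k w)
    (hxz : MulAut.conj x z = z) (hkw : MulAut.conj k w = w) (hkz : MulAut.conj k z = z * w)
    (hxw : MulAut.conj x w = w * z) {a : G} (ha : a ∈ A) :
    MulAut.conj (k * x * k) a = MulAut.conj (x * k * x) a := by
  have hzw : z * w = w * z := hc z hz w hw
  have e1 : w * (z * w) = z := by rw [hzw, ← mul_assoc, hw2, one_mul]
  have e2 : z * (w * z) = w := by rw [← hzw, ← mul_assoc, hz2, one_mul]
  have e3 : w * (w * z) = z := by rw [← mul_assoc, hw2, one_mul]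
  have e4 : z * (z * w) = w := by rw [← mul_assoc, hz2, one_mul]
  rw [map_mul, map_mul, MulAut.mul_apply, MulAut.mul_apply, map_mul, map_mul, MulAut.mul_apply,
    MulAut.mul_apply]
  rcases hxT a ha with e | e <;> rcases hkT a ha with e' | e' <;>
    simp only [e, e', map_mul, hxz, hkw, hkz, hxw, mul_assoc, e1, e2, e3, e4, hz2, hw2, hzw, mul_one]

end CfsgLib.AfterFT.DihedralSquare
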