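import Cfsg.Agent.Lib.AfterFT.DihedralSquare.Frame
import Cfsg.Agent.Lib.AfterFT.DihedralSquare.Tools

/-!
The trace of an essential subgroup on a dihedral direct factor of the Sylow subgroup.
-/

set_option autoImplicit false
set_option linter.unusedSectionVars false

namespace CfsgLib.AfterFT.DihedralSquare

open Cfsg Cfsg.FusionSystem Subgroup

universe u
variable {G : Type u} [Group G] [Finite G] {P : Sylow 2 G} {E : Subgroup G}

namespace Frame

variable (fr : Frame (P : Subgroup G))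

theorem conj_mem_D {g d : G} (hg : g ∈ (P : Subgroup G)) (hd : d ∈ fr.D) : g * d * g⁻¹ ∈ fr.D := by
  obtain ⟨e, he, q, hq, rfl⟩ := fr.exists_decomp hg
  have h1 : q * d * q⁻¹ = d := by rw [← fr.commute_DQ hd hq, mul_inv_cancel_right]
  have : e * q * d * (e * q)⁻¹ = e * (q * d * q⁻¹) * e⁻¹ := by group
  rw [this, h1]
  exact mul_mem (mul_mem he hd) (InvMemClass.inv_mem he)

theorem exists_normalizing (hE : E ≤ P) (hD : ¬ fr.D ≤ E) :
    ∃ x ∈ fr.D, x ∈ normalizerIn (P : Subgroup G) E ∧ x ∉ E := by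
  haveI : Fact (Nat.Prime 2) := ⟨Nat.prime_two⟩
  have hM : fr.D ⊔ E ≤ (P : Subgroup G) := sup_le fr.D_le hE
  have hlt : E < fr.D ⊔ E := lt_of_le_of_ne le_sup_right fun e => hD (e ▸ le_sup_left)
  obtain ⟨m, hm, hmE⟩ := SetLike.exists_of_lt (lt_normalizerIn (P.2.to_le hM) hlt)
  have hn : E ≤ normalizer (fr.D : Set G) := by
    have key : ∀ g ∈ (P : Subgroup G), ∀ d ∈ fr.D, g * d * g⁻¹ ∈ fr.D := fun g hg d hd => fr.conj_mem_D hg hd
    intro g hg
    refine mem_normalizer_iff.mpr fun d => ⟨key g (hE hg) d, fun hd => ?_⟩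
    have := key g⁻¹ (P.inv_mem (hE hg)) _ hd
    simpa [mul_assoc] using this
  have hm' : m ∈ (↑(fr.D ⊔ E) : Set G) := hm.1
  rw [sup_comm, coe_mul_of_left_le_normalizer_right E fr.D hn] at hm'
  obtain ⟨e, he, d, hd, hed⟩ := hm'
  have hed' : e * d = m := hed
  have hd' : d = e⁻¹ * m := by rw [← hed', inv_mul_cancel_left]
  exact ⟨d, hd, ⟨fr.D_le hd, hd' ▸ Subgroup.mul_mem _ (Subgroup.inv_mem _ (le_normalizer he)) hm.2⟩,
    fun h => hmE (hed' ▸ mul_mem he h)⟩

/-- An essential subgroup not containing the dihedral factor meets it in a four-group. -/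
theorem exists_inV (hE : (groupFusionSystem (P : Subgroup G)).IsEssential 2 E) (hD : ¬ fr.D ≤ E) :
    ∃ t, fr.IsRefl t ∧ (∀ d, fr.InV t d → d ∈ E) ∧ ∀ g ∈ E, fr.InV t (fr.pr g) := by
  haveI : Fact (Nat.Prime 2) := ⟨Nat.prime_two⟩
  have hES : E ≤ P := hE.1.1
  have hC := hE.1.centralizerIn_le_self
  obtain ⟨x, hxD, hx, hxE⟩ := fr.exists_normalizing hES hD
  set L : Subgroup G := E ⊓ zpowers (fr.r ^ 2) with hL
  haveI : IsCyclic L := isCyclic_of_injective (inclusion (inf_le_right : L ≤ zpowers (fr.r ^ 2)))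
    (inclusion_injective _)
  obtain ⟨⟨c, hcL⟩, hgen⟩ := IsCyclic.exists_generator (α := L)
  have hcE : c ∈ E := hcL.1
  have hcr : c ∈ zpowers fr.r := zpowers_le.mpr (pow_mem (mem_zpowers _) 2) hcL.2
  have hcD := fr.rot_mem hcr
  have hLc : ∀ y ∈ L, y ∈ zpowers c := fun y hy => by
    obtain ⟨j, hj⟩ := mem_zpowers_iff.mp (hgen ⟨y, hy⟩)
    exact ⟨j, by simpa using congrArg Subtype.val hj⟩
  obtain ⟨g, hg, hmv⟩ := exists_moved_mod_frattini hE hx hxE hcE fun e he => hLc _ ⟨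
    E.mul_mem ((mem_normalizer_iff.mp hx.2 e).mp he) (E.inv_mem he), by
    rw [fr.commutator_pr hxD (hES he)]; exact fr.commutator_mem hxD (fr.pr_mem (hES he))⟩
  set e := g * c * g⁻¹ with he'
  have heE : e ∈ E := (mem_normalizer_iff.mp hg c).mp hcE
  have heS := hES heE
  set k := x * e * x⁻¹ * e⁻¹ with hk
  have hkpr : k = x * fr.pr e * x⁻¹ * (fr.pr e)⁻¹ := fr.commutator_pr hxD heS
  have hkL : k ∈ L := ⟨E.mul_mem ((mem_normalizer_iff.mp hx.2 e).mp heE) (E.inv_mem heE), by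
    rw [hkpr]; exact fr.commutator_mem hxD (fr.pr_mem heS)⟩
  obtain ⟨j, hj⟩ := mem_zpowers_iff.mp (hLc k hkL)
  have hk1 : k ≠ 1 := fun h => hmv (h ▸ one_mem _)
  have hodd : Odd j := by
    rcases Int.even_or_odd j with ⟨i, rfl⟩ | h
    · refine absurd ⟨(⟨c ^ i, zpow_mem hcE i⟩ : E) ^ 2,
        CfsgLib.pow_mem_frattini_pGroup (P.2.to_le hES) _, ?_⟩ hmv
      show ((⟨c ^ i, zpow_mem hcE i⟩ : E) : G) ^ 2 = k
      rw [← hj, pow_two, ← zpow_add]
    · exact h
  have hcomm : x * fr.pr e ≠ fr.pr e * x := fun h => hk1 (by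
    rw [hkpr, h, mul_inv_cancel_right, mul_inv_cancel])
  have hc1 : c ≠ 1 := fun h => hk1 (by rw [← hj, h, one_zpow])
  by_cases hc2 : c * c = 1
  · -- the commutator is the central involution
    have hcz : c = fr.z := (fr.eq_z_of_sq hcr hc2).resolve_left hc1
    have hkz : k = fr.z := by
      obtain ⟨i, rfl⟩ := hodd
      rw [← hj, hcz, zpow_add, zpow_mul, zpow_one, show fr.z ^ (2 : ℤ) = 1 by rw [zpow_two, fr.z_mul_z],
        one_zpow, one_mul]
    have hecen : ∀ y ∈ E, e * y = y * e := by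
      intro y hy
      have hy' : g⁻¹ * y * g ∈ E := (mem_normalizer_iff''.mp hg y).mp hy
      have := fr.z_comm (hES hy')
      rw [← hcz] at this
      calc e * y = g * (c * (g⁻¹ * y * g)) * g⁻¹ := by rw [he']; group
        _ = y * e := by rw [this, he']; group
    have hee : fr.pr e * fr.pr e = 1 := by
      rw [← fr.pr_mul heS heS, show e * e = 1 by
        rw [he', show g * c * g⁻¹ * (g * c * g⁻¹) = g * (c * c) * g⁻¹ by group, hc2, mul_one, mul_inv_cancel], fr.pr_one]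
    have hcen : ∀ y ∈ E, fr.pr e * fr.pr y = fr.pr y * fr.pr e := fun y hy => by
      rw [← fr.pr_mul heS (hES hy), ← fr.pr_mul (hES hy) heS, hecen y hy]
    by_cases hrot : fr.pr e ∈ zpowers fr.r
    · exfalso
      rcases fr.eq_z_of_sq hrot hee with h | h
      · exact hcomm (by rw [h, one_mul, mul_one])
      · exact hcomm (by rw [h, fr.z_comm_D hxD])
    have ht : fr.IsRefl (fr.pr e) := ⟨fr.pr_mem heS, hrot⟩
    have hV : ∀ y ∈ E, fr.InV (fr.pr e) (fr.pr y) := fun y hy =>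
      fr.inV_of_commute ht (fr.pr_mem (hES hy)) (hcen y hy).symm
    refine ⟨fr.pr e, ht, fun d hd => hC ⟨fr.D_le (fr.inV_mem ht hd), mem_centralizer_iff.mpr fun y hy => ?_⟩,
      hV⟩
    exact ((fr.commute_iff_pr (fr.inV_mem ht hd) (hES hy)).mpr (fr.inV_comm ht hd (hV y hy))).symm
  · exfalso
    by_cases hrot : fr.pr e ∈ zpowers fr.r
    · have hxr : fr.IsRefl x := ⟨hxD, fun h => hcomm (fr.rot_comm h hrot)⟩
      have hke : k = (fr.pr e)⁻¹ * (fr.pr e)⁻¹ := by rw [hkpr, fr.refl_conj hxr hrot]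
      obtain ⟨a, ha⟩ := (IsPGroup.iff_orderOf.mp P.2) ⟨c, hES hcE⟩
      rw [Subgroup.orderOf_mk] at ha
      obtain ⟨b, hb⟩ : 2 ∣ orderOf c := by
        rw [ha]
        refine dvd_pow_self 2 fun h => hc1 ?_
        rw [h, pow_zero, orderOf_eq_one_iff] at ha
        exact ha
      have hpow : fr.pr e ^ orderOf c = 1 := by
        have h1 : ∀ n : ℕ, fr.pr (e ^ n) = fr.pr e ^ n := by
          intro n
          induction n with
          | zero => simp [fr.pr_one]
          | succ n ih => rw [pow_succ, fr.pr_mul (pow_mem heS n) heS, ih, pow_succ]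
        rw [← h1, he', conj_pow, pow_orderOf_eq_one, mul_one, mul_inv_cancel, fr.pr_one]
      have hkb : c ^ (j * (b : ℤ)) = 1 := by
        rw [zpow_mul, hj, hke, zpow_natCast, ← pow_two, ← pow_mul, ← hb, inv_pow, hpow, inv_one]
      have hd := orderOf_dvd_iff_zpow_eq_one.mpr hkb
      rw [hb] at hd
      push_cast at hd
      have hb0 : (b : ℤ) ≠ 0 := by
        have := orderOf_pos c
        intro h; simp only [Nat.cast_eq_zero] at h; subst h; omega
      exact (Int.not_even_iff_odd.mpr hodd) (even_iff_two_dvd.mpr (Int.dvd_of_mul_dvd_mul_right hb0 hd))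
    · have ht : fr.IsRefl (fr.pr e) := ⟨fr.pr_mem heS, hrot⟩
      set y := g⁻¹ * c * g with hy'
      have hyE : y ∈ E := (mem_normalizer_iff''.mp hg c).mp hcE
      have h1 : c * y * c⁻¹ * y⁻¹ ∈ zpowers (c * c) := by
        rw [fr.commutator_pr hcD (hES hyE)]
        by_cases hr : fr.pr y ∈ zpowers fr.r
        · rw [fr.rot_comm hcr hr, mul_inv_cancel_right, mul_inv_cancel]; exact one_mem _
        · have := fr.refl_conj ⟨fr.pr_mem (hES hyE), hr⟩ (inv_mem hcr)
          rw [inv_inv] at this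
          rw [mul_assoc c, mul_assoc c, this]
          exact mem_zpowers _
      have h2 : e * c * e⁻¹ * c⁻¹ ∈ fr.Q := by
        obtain ⟨i, hi⟩ := mem_zpowers_iff.mp h1
        have hee : e * e ∈ fr.Q := (fr.mem_Q_iff (mul_mem heS heS)).mpr (by rw [fr.pr_mul heS heS, fr.refl_sq ht])
        have : e * c * e⁻¹ * c⁻¹ = (e * e) ^ i := by
          calc e * c * e⁻¹ * c⁻¹ = g * (c * y * c⁻¹ * y⁻¹) * g⁻¹ := by rw [he', hy']; group
            _ = g * (c * c) ^ i * g⁻¹ := by rw [hi]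
            _ = (e * e) ^ i := by rw [← conj_zpow]; congr 1; rw [he']; group
        rw [this]
        exact zpow_mem hee i
      have h3 : e * c * e⁻¹ * c⁻¹ = c⁻¹ * c⁻¹ := by
        have h := congrArg (·⁻¹) (fr.commutator_pr hcD heS)
        simp only [mul_inv_rev, inv_inv, ← mul_assoc] at h
        rw [h, fr.refl_conj ht hcr]
      have h4 : c⁻¹ * c⁻¹ = 1 := fr.eq_one_of_mem (mul_mem (inv_mem hcD) (inv_mem hcD)) (h3 ▸ h2)
      rw [← mul_inv_rev, inv_eq_one] at h4
      exact hc2 h4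

end Frame

end CfsgLib.AfterFT.DihedralSquare
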