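import Cfsg.Prelude.Def_TwoFusion
import Mathlib.GroupTheory.OrderOfElement
import Mathlib.Algebra.Group.Subgroup.Pointwise
import Mathlib.Tactic.Group
import Mathlib.Tactic.Ring

/-!
A subgroup with a dihedral direct factor: elementary facts and the projection on that factor.
-/

set_option autoImplicit false
set_option linter.unusedSectionVars false

namespace CfsgLib.AfterFT.DihedralSquare

open Cfsg Subgroup

universe u
variable {G : Type u} [Group G]

/-- `S = D × Q` with `D = ⟨r, s⟩` dihedral of order `8 * l`. -/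
structure Frame (S : Subgroup G) where
  /-- The dihedral factor. -/
  D : Subgroup G
  /-- The other factor. -/
  Q : Subgroup G
  /-- The rotation. -/
  r : G
  /-- A reflection. -/
  s : G
  /-- A quarter of the order of the rotation. -/
  l : ℕ
  prod : IsInternalDirectProduct D Q S
  l_pos : 0 < l
  order_r : orderOf r = 4 * l
  s_sq : s * s = 1
  conj_r : s * r * s⁻¹ = r⁻¹
  s_notMem : s ∉ zpowers r
  mem_iff : ∀ d, d ∈ D ↔ d ∈ zpowers r ∨ s * d ∈ zpowers r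

namespace Frame

variable {S : Subgroup G} (fr : Frame S)

/-- The central involution of the dihedral factor. -/
def z : G := fr.r ^ (2 * fr.l)

/-- A rotation of order four. -/
def x : G := fr.r ^ fr.l

/-- The reflections of the dihedral factor. -/
def IsRefl (t : G) : Prop := t ∈ fr.D ∧ t ∉ zpowers fr.r

/-- The four-group of the reflection `t`. -/
def InV (t d : G) : Prop := d = 1 ∨ d = fr.z ∨ d = t ∨ d = t * fr.z

theorem r_mem : fr.r ∈ fr.D := (fr.mem_iff _).mpr (Or.inl (mem_zpowers _))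

theorem s_mem : fr.s ∈ fr.D := (fr.mem_iff _).mpr (Or.inr (by rw [fr.s_sq]; exact one_mem _))

theorem D_le : fr.D ≤ S := fr.prod.1

theorem Q_le : fr.Q ≤ S := fr.prod.2.1

theorem rot_mem {c : G} (hc : c ∈ zpowers fr.r) : c ∈ fr.D := (fr.mem_iff _).mpr (Or.inl hc)

theorem isRefl_s : fr.IsRefl fr.s := ⟨fr.s_mem, fr.s_notMem⟩

theorem isRefl_mul {c : G} (hc : c ∈ zpowers fr.r) {t : G} (ht : fr.IsRefl t) : fr.IsRefl (t * c) :=
  ⟨fr.D.mul_mem ht.1 (fr.rot_mem hc), fun h => ht.2 (by simpa using mul_mem h (inv_mem hc))⟩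

theorem exists_of_isRefl {t : G} (ht : fr.IsRefl t) : ∃ i : ℤ, t = fr.s * fr.r ^ i := by
  rcases (fr.mem_iff t).mp ht.1 with h | h
  · exact absurd h ht.2
  · obtain ⟨i, hi⟩ := mem_zpowers_iff.mp h
    exact ⟨i, by rw [hi, ← mul_assoc, fr.s_sq, one_mul]⟩

theorem s_conj_rot (j : ℤ) : fr.s * fr.r ^ j * fr.s⁻¹ = fr.r ^ (-j) := by
  rw [← conj_zpow, fr.conj_r, inv_zpow, zpow_neg]

/-- Reflections invert rotations. -/
theorem refl_conj {t c : G} (ht : fr.IsRefl t) (hc : c ∈ zpowers fr.r) : t * c * t⁻¹ = c⁻¹ := by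
  obtain ⟨i, rfl⟩ := fr.exists_of_isRefl ht
  obtain ⟨j, rfl⟩ := mem_zpowers_iff.mp hc
  calc fr.s * fr.r ^ i * fr.r ^ j * (fr.s * fr.r ^ i)⁻¹ = fr.s * fr.r ^ j * fr.s⁻¹ := by group
    _ = (fr.r ^ j)⁻¹ := by rw [fr.s_conj_rot, zpow_neg]

theorem refl_sq {t : G} (ht : fr.IsRefl t) : t * t = 1 := by
  obtain ⟨i, rfl⟩ := fr.exists_of_isRefl ht
  have hs : fr.s⁻¹ = fr.s := inv_eq_of_mul_eq_one_left fr.s_sq
  have h := fr.s_conj_rot i
  rw [hs] at h
  calc fr.s * fr.r ^ i * (fr.s * fr.r ^ i) = fr.s * fr.r ^ i * fr.s * fr.r ^ i := by group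
    _ = 1 := by rw [h, zpow_neg, inv_mul_cancel]

theorem refl_inv {t : G} (ht : fr.IsRefl t) : t⁻¹ = t := inv_eq_of_mul_eq_one_left (fr.refl_sq ht)

theorem rot_comm {a b : G} (ha : a ∈ zpowers fr.r) (hb : b ∈ zpowers fr.r) : a * b = b * a := by
  obtain ⟨i, rfl⟩ := mem_zpowers_iff.mp ha
  obtain ⟨j, rfl⟩ := mem_zpowers_iff.mp hb
  exact ((Commute.refl fr.r).zpow_zpow i j).eq

/-- The product of two reflections is a rotation. -/
theorem refl_mul_refl {a b : G} (ha : fr.IsRefl a) (hb : fr.IsRefl b) : a * b ∈ zpowers fr.r := by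
  obtain ⟨i, rfl⟩ := fr.exists_of_isRefl ha
  obtain ⟨j, rfl⟩ := fr.exists_of_isRefl hb
  have hs : fr.s⁻¹ = fr.s := inv_eq_of_mul_eq_one_left fr.s_sq
  have h := fr.s_conj_rot i
  rw [hs] at h
  refine ⟨-i + j, ?_⟩
  show fr.r ^ (-i + j) = _
  rw [zpow_add, ← h]
  group

theorem z_mem_rot : fr.z ∈ zpowers fr.r := pow_mem (mem_zpowers _) _

theorem x_mem_rot : fr.x ∈ zpowers fr.r := pow_mem (mem_zpowers _) _

theorem z_mem : fr.z ∈ fr.D := fr.rot_mem fr.z_mem_rot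

theorem x_mem : fr.x ∈ fr.D := fr.rot_mem fr.x_mem_rot

theorem x_mul_x : fr.x * fr.x = fr.z := by rw [x, z, two_mul, pow_add]

theorem z_mul_z : fr.z * fr.z = 1 := by
  rw [z, ← pow_add, ← pow_orderOf_eq_one fr.r, fr.order_r]
  congr 1
  omega

theorem z_inv : fr.z⁻¹ = fr.z := inv_eq_of_mul_eq_one_left fr.z_mul_z

theorem z_ne_one : fr.z ≠ 1 := by
  intro h
  have := Nat.le_of_dvd (by have := fr.l_pos; omega) (fr.order_r ▸ orderOf_dvd_of_pow_eq_one h)
  have := fr.l_pos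
  omega

/-- The only involution among the rotations. -/
theorem eq_z_of_sq {c : G} (hc : c ∈ zpowers fr.r) (h : c * c = 1) : c = 1 ∨ c = fr.z := by
  obtain ⟨i, rfl⟩ := mem_zpowers_iff.mp hc
  rw [← zpow_add] at h
  have h1 := orderOf_dvd_iff_zpow_eq_one.mpr h
  rw [fr.order_r] at h1
  obtain ⟨k, hk⟩ := h1
  have hi : i = 2 * (fr.l : ℤ) * k := by
    push_cast at hk; linarith
  have hz : fr.r ^ (2 * (fr.l : ℤ)) = fr.z := by
    rw [z, ← zpow_natCast]; push_cast; rfl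
  rcases Int.even_or_odd k with ⟨m, hm⟩ | ⟨m, hm⟩
  · left
    rw [← orderOf_dvd_iff_zpow_eq_one, fr.order_r]
    exact ⟨m, by rw [hi, hm]; push_cast; ring⟩
  · right
    rw [hi, hm, mul_add, mul_one, zpow_add, hz]
    have : fr.r ^ (2 * (fr.l : ℤ) * (2 * m)) = 1 := by
      rw [← orderOf_dvd_iff_zpow_eq_one, fr.order_r]
      exact ⟨m, by push_cast; ring⟩
    rw [this, one_mul]

theorem x_sq_ne_one : fr.x * fr.x ≠ 1 := by rw [fr.x_mul_x]; exact fr.z_ne_one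

theorem refl_ne {t : G} (ht : fr.IsRefl t) : t ≠ 1 ∧ t ≠ fr.z :=
  ⟨fun h => ht.2 (h ▸ one_mem _), fun h => ht.2 (h ▸ fr.z_mem_rot)⟩

theorem z_comm_D {d : G} (hd : d ∈ fr.D) : d * fr.z = fr.z * d := by
  by_cases h : d ∈ zpowers fr.r
  · exact fr.rot_comm h fr.z_mem_rot
  · have := fr.refl_conj ⟨hd, h⟩ fr.z_mem_rot
    rw [fr.z_inv, mul_inv_eq_iff_eq_mul] at this
    exact this

/-- The centralizer of a reflection. -/
theorem inV_of_commute {t d : G} (ht : fr.IsRefl t) (hd : d ∈ fr.D) (h : d * t = t * d) : fr.InV t d := by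
  have hrot : ∀ c, c ∈ zpowers fr.r → c * t = t * c → c = 1 ∨ c = fr.z := by
    intro c hc e
    refine fr.eq_z_of_sq hc ?_
    have h1 := fr.refl_conj ht hc
    rw [← e, mul_inv_cancel_right] at h1
    exact mul_eq_one_iff_eq_inv.mpr h1
  by_cases hr : d ∈ zpowers fr.r
  · rcases hrot d hr h with h1 | h1
    exacts [Or.inl h1, Or.inr (Or.inl h1)]
  · have hc := fr.refl_mul_refl ht ⟨hd, hr⟩
    have e : t * d * t = t * (t * d) := by rw [mul_assoc, h]
    have hd' : d = t * (t * d) := by rw [← mul_assoc, fr.refl_sq ht, one_mul]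
    rcases hrot _ hc e with h1 | h1
    · exact Or.inr (Or.inr (Or.inl (by rw [hd', h1, mul_one])))
    · exact Or.inr (Or.inr (Or.inr (by rw [hd', h1])))

/-- The centralizer of a non-central rotation. -/
theorem rot_of_commute {c d : G} (hc : c ∈ zpowers fr.r) (hc2 : c * c ≠ 1) (hd : d ∈ fr.D)
    (h : d * c = c * d) : d ∈ zpowers fr.r := by
  by_contra hr
  have h1 := fr.refl_conj ⟨hd, hr⟩ hc
  rw [h, mul_inv_cancel_right] at h1
  exact hc2 (mul_eq_one_iff_eq_inv.mpr h1)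

theorem inV_mem {t d : G} (ht : fr.IsRefl t) (h : fr.InV t d) : d ∈ fr.D := by
  rcases h with rfl | rfl | rfl | rfl
  exacts [one_mem _, fr.z_mem, ht.1, mul_mem ht.1 fr.z_mem]

theorem refl_z {t : G} (ht : fr.IsRefl t) : fr.IsRefl (t * fr.z) := fr.isRefl_mul fr.z_mem_rot ht

theorem inV_mul {t a b : G} (ht : fr.IsRefl t) (ha : fr.InV t a) (hb : fr.InV t b) : fr.InV t (a * b) := by
  have hz := fr.z_mul_z
  have htt := fr.refl_sq ht
  have hc := fr.z_comm_D ht.1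
  have h1 : fr.z * t = t * fr.z := hc.symm
  have h2 : fr.z * (t * fr.z) = t := by rw [← mul_assoc, h1, mul_assoc, hz, mul_one]
  have h3 : t * (t * fr.z) = fr.z := by rw [← mul_assoc, htt, one_mul]
  have h4 : t * fr.z * t = fr.z := by rw [mul_assoc, h1, h3]
  rcases ha with rfl | rfl | rfl | rfl <;> rcases hb with rfl | rfl | rfl | rfl <;>
    simp [InV, hz, htt, h1, h2, h3, h4, mul_assoc]

theorem inV_comm {t a b : G} (ht : fr.IsRefl t) (ha : fr.InV t a) (hb : fr.InV t b) : a * b = b * a := by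
  have hz : ∀ {d : G}, d ∈ fr.D → d * fr.z = fr.z * d := fun h => fr.z_comm_D h
  have h1 : ∀ c, fr.InV t c → c * t = t * c := by
    intro c hc
    rcases hc with rfl | rfl | rfl | rfl
    · simp
    · exact (hz ht.1).symm
    · rfl
    · rw [mul_assoc, ← hz ht.1]
  have h2 : ∀ c, fr.InV t c → c * fr.z = fr.z * c := fun c hc => hz (fr.inV_mem ht hc)
  rcases hb with rfl | rfl | rfl | rfl
  · simp
  · exact h2 a ha
  · exact h1 a ha
  · rw [← mul_assoc, h1 a ha, mul_assoc, h2 a ha, mul_assoc]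

theorem inV_sq {t a : G} (ht : fr.IsRefl t) (ha : fr.InV t a) : a * a = 1 := by
  rcases ha with rfl | rfl | rfl | rfl
  exacts [one_mul 1, fr.z_mul_z, fr.refl_sq ht, fr.refl_sq (fr.refl_z ht)]

theorem inV_refl {t a : G} (ht : fr.IsRefl t) (ha : fr.InV t a) :
    (a = 1 ∨ a = fr.z) ∨ (fr.IsRefl a ∧ (a = t ∨ a = t * fr.z)) := by
  rcases ha with rfl | rfl | rfl | rfl
  exacts [Or.inl (Or.inl rfl), Or.inl (Or.inr rfl), Or.inr ⟨ht, Or.inl rfl⟩,
    Or.inr ⟨fr.refl_z ht, Or.inr rfl⟩]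

theorem x_conj_refl {t : G} (ht : fr.IsRefl t) : fr.x * t * fr.x⁻¹ = t * fr.z := by
  have h := fr.refl_conj ht fr.x_mem_rot
  rw [fr.refl_inv ht] at h
  calc fr.x * t * fr.x⁻¹ = t * (t * fr.x * t) * fr.x⁻¹ := by rw [mul_assoc t fr.x t, ← mul_assoc t t, fr.refl_sq ht, one_mul]
    _ = t * (fr.x⁻¹ * fr.x⁻¹) := by rw [h]; group
    _ = t * fr.z := by rw [← mul_inv_rev, fr.x_mul_x, fr.z_inv]

/-- Commutators of the dihedral factor are squares of rotations. -/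
theorem commutator_mem {a b : G} (ha : a ∈ fr.D) (hb : b ∈ fr.D) :
    a * b * a⁻¹ * b⁻¹ ∈ zpowers (fr.r ^ 2) := by
  have hsq : ∀ c ∈ zpowers fr.r, c * c ∈ zpowers (fr.r ^ 2) := by
    intro c hc
    obtain ⟨i, rfl⟩ := mem_zpowers_iff.mp hc
    exact ⟨i, by
      show (fr.r ^ 2) ^ i = _
      rw [← zpow_natCast, ← zpow_mul, ← zpow_add]; congr 1; push_cast; ring⟩
  by_cases har : a ∈ zpowers fr.r <;> by_cases hbr : b ∈ zpowers fr.r
  · rw [fr.rot_comm har hbr, mul_inv_cancel_right, mul_inv_cancel]; exact one_mem _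
  · have h := fr.refl_conj ⟨hb, hbr⟩ (inv_mem har)
    rw [inv_inv] at h
    rw [mul_assoc a, mul_assoc a, h]
    exact hsq a har
  · have h := fr.refl_conj ⟨ha, har⟩ hbr
    rw [h, ← mul_inv_rev]
    exact inv_mem (hsq b hbr)
  · have hab := fr.refl_mul_refl ⟨ha, har⟩ ⟨hb, hbr⟩
    rw [fr.refl_inv ⟨ha, har⟩, fr.refl_inv ⟨hb, hbr⟩, mul_assoc (a * b)]
    exact hsq _ hab

theorem commute_DQ {d q : G} (hd : d ∈ fr.D) (hq : q ∈ fr.Q) : d * q = q * d := fr.prod.2.2.1 d hd q hq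

theorem exists_decomp {g : G} (hg : g ∈ S) : ∃ d ∈ fr.D, ∃ q ∈ fr.Q, d * q = g := by
  have hn : fr.D ≤ normalizer (fr.Q : Set G) := fun d hd => mem_normalizer_iff.mpr fun q =>
    ⟨fun hq => by rw [fr.commute_DQ hd hq, mul_inv_cancel_right]; exact hq, fun hq => by
      have e := fr.commute_DQ hd hq
      have : q = d * q * d⁻¹ := by
        calc q = d⁻¹ * (d * q * d⁻¹ * d) := by group
          _ = d⁻¹ * (d * (d * q * d⁻¹)) := by rw [← e]
          _ = d * q * d⁻¹ := by group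
      rw [this]; exact hq⟩
  have hg' : g ∈ (↑(fr.D ⊔ fr.Q) : Set G) := by rw [fr.prod.2.2.2.2]; exact hg
  rw [coe_mul_of_left_le_normalizer_right fr.D fr.Q hn] at hg'
  obtain ⟨d, hd, q, hq, e⟩ := hg'
  exact ⟨d, hd, q, hq, e⟩

theorem eq_one_of_mem {g : G} (h1 : g ∈ fr.D) (h2 : g ∈ fr.Q) : g = 1 := by
  have : g ∈ fr.D ⊓ fr.Q := ⟨h1, h2⟩
  rw [fr.prod.2.2.2.1] at this
  exact mem_bot.mp this

open Classical in
/-- The projection on the dihedral factor. -/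
noncomputable def pr (g : G) : G := if h : g ∈ S then (fr.exists_decomp h).choose else 1

theorem pr_spec {g : G} (hg : g ∈ S) : fr.pr g ∈ fr.D ∧ (fr.pr g)⁻¹ * g ∈ fr.Q := by
  rw [pr, dif_pos hg]
  obtain ⟨h1, q, hq, e⟩ := (fr.exists_decomp hg).choose_spec
  refine ⟨h1, ?_⟩
  rw [← eq_inv_mul_iff_mul_eq] at e
  exact e ▸ hq

theorem pr_mem {g : G} (hg : g ∈ S) : fr.pr g ∈ fr.D := (fr.pr_spec hg).1

theorem pr_eq {d q : G} (hd : d ∈ fr.D) (hq : q ∈ fr.Q) : fr.pr (d * q) = d := by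
  have hg : d * q ∈ S := S.mul_mem (fr.D_le hd) (fr.Q_le hq)
  obtain ⟨h1, h2⟩ := fr.pr_spec hg
  have h3 : (fr.pr (d * q))⁻¹ * d ∈ fr.Q := by
    have := fr.Q.mul_mem h2 (fr.Q.inv_mem hq)
    rwa [← mul_assoc, mul_inv_cancel_right] at this
  exact inv_mul_eq_one.mp (fr.eq_one_of_mem (fr.D.mul_mem (fr.D.inv_mem h1) hd) h3)

theorem pr_of_mem_D {d : G} (hd : d ∈ fr.D) : fr.pr d = d := by
  have := fr.pr_eq hd fr.Q.one_mem
  rwa [mul_one] at this

theorem pr_of_mem_Q {q : G} (hq : q ∈ fr.Q) : fr.pr q = 1 := by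
  have := fr.pr_eq fr.D.one_mem hq
  rwa [one_mul] at this

theorem pr_mul {a b : G} (ha : a ∈ S) (hb : b ∈ S) : fr.pr (a * b) = fr.pr a * fr.pr b := by
  obtain ⟨d, hd, q, hq, rfl⟩ := fr.exists_decomp ha
  obtain ⟨d', hd', q', hq', rfl⟩ := fr.exists_decomp hb
  have : d * q * (d' * q') = d * d' * (q * q') := by
    calc d * q * (d' * q') = d * (q * d') * q' := by group
      _ = d * (d' * q) * q' := by rw [fr.commute_DQ hd' hq]
      _ = d * d' * (q * q') := by group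
  rw [this, fr.pr_eq (fr.D.mul_mem hd hd') (fr.Q.mul_mem hq hq'), fr.pr_eq hd hq, fr.pr_eq hd' hq']

theorem pr_one : fr.pr 1 = 1 := fr.pr_of_mem_D fr.D.one_mem

theorem pr_inv {a : G} (ha : a ∈ S) : fr.pr a⁻¹ = (fr.pr a)⁻¹ :=
  eq_inv_of_mul_eq_one_left (by rw [← fr.pr_mul (S.inv_mem ha) ha, inv_mul_cancel, fr.pr_one])

theorem mem_D_iff {g : G} (hg : g ∈ S) : g ∈ fr.D ↔ fr.pr g = g :=
  ⟨fr.pr_of_mem_D, fun h => h ▸ fr.pr_mem hg⟩

theorem mem_Q_iff {g : G} (hg : g ∈ S) : g ∈ fr.Q ↔ fr.pr g = 1 :=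
  ⟨fr.pr_of_mem_Q, fun h => by have := (fr.pr_spec hg).2; rwa [h, inv_one, one_mul] at this⟩

/-- Commutators with the dihedral factor only see the projection. -/
theorem commutator_pr {d g : G} (hd : d ∈ fr.D) (hg : g ∈ S) :
    d * g * d⁻¹ * g⁻¹ = d * fr.pr g * d⁻¹ * (fr.pr g)⁻¹ := by
  obtain ⟨e, he, q, hq, rfl⟩ := fr.exists_decomp hg
  rw [fr.pr_eq he hq]
  have h1 : q * d⁻¹ * q⁻¹ = d⁻¹ := by
    rw [← fr.commute_DQ (fr.D.inv_mem hd) hq, mul_inv_cancel_right]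
  calc d * (e * q) * d⁻¹ * (e * q)⁻¹ = d * e * (q * d⁻¹ * q⁻¹) * e⁻¹ := by group
    _ = d * e * d⁻¹ * e⁻¹ := by rw [h1]

/-- Commuting with an element of the dihedral factor only depends on the projection. -/
theorem commute_iff_pr {d g : G} (hd : d ∈ fr.D) (hg : g ∈ S) :
    d * g = g * d ↔ d * fr.pr g = fr.pr g * d := by
  constructor <;> intro h
  · have e := fr.commutator_pr hd hg
    rw [h, mul_inv_cancel_right, mul_inv_cancel, eq_comm, mul_inv_eq_one, mul_inv_eq_iff_eq_mul] at e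
    exact e
  · have e := fr.commutator_pr hd hg
    rw [h, mul_inv_cancel_right, mul_inv_cancel, mul_inv_eq_one, mul_inv_eq_iff_eq_mul] at e
    exact e

theorem z_comm {g : G} (hg : g ∈ S) : fr.z * g = g * fr.z :=
  (fr.commute_iff_pr fr.z_mem hg).mpr (fr.z_comm_D (fr.pr_mem hg)).symm

theorem pr_z_mul {g : G} (hg : g ∈ S) : fr.pr (g * fr.z) = fr.pr g * fr.z := by
  rw [fr.pr_mul hg (fr.D_le fr.z_mem), fr.pr_of_mem_D fr.z_mem]

end Frame

end CfsgLib.AfterFT.DihedralSquare
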