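import Cfsg.Agent.Lib.AfterFT.DihedralSquare.Closed

/-!
Both factors non-abelian.
-/

set_option autoImplicit false
set_option linter.unusedSectionVars false

namespace CfsgLib.AfterFT.DihedralSquare

open Cfsg Cfsg.FusionSystem Subgroup

universe u
variable {G : Type u} [Group G] [Finite G] {P : Sylow 2 G}

theorem isInternalDirectProduct_symm {A B S : Subgroup G} (h : IsInternalDirectProduct A B S) :
    IsInternalDirectProduct B A S :=
  ⟨h.2.1, h.1, fun a ha b hb => (h.2.2.1 b hb a ha).symm, by rw [inf_comm]; exact h.2.2.2.1,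
    by rw [sup_comm]; exact h.2.2.2.2⟩

/-- All square roots of `m` in `S` commute. -/
def RootsCommute (P : Sylow 2 G) (m : G) : Prop :=
  ∀ a ∈ (P : Subgroup G), ∀ b ∈ (P : Subgroup G), a * a = m → b * b = m → a * b = b * a

theorem rootsCommute_conj {g m : G} (hg : g ∈ normalizer ((P : Subgroup G) : Set G)) (h : RootsCommute P m) :
    RootsCommute P (MulAut.conj g m) := by
  intro a ha b hb ha2 hb2
  have key := h _ (conj_S (inv_mem hg) ha) _ (conj_S (inv_mem hg) hb)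
    (by rw [← map_mul, ha2, conj_inv_conj]) (by rw [← map_mul, hb2, conj_inv_conj])
  rw [← map_mul, ← map_mul] at key
  exact (MulAut.conj g⁻¹).injective key

namespace Frame

variable (fr fr' : Frame (P : Subgroup G)) (hD : fr'.D = fr.Q) (hQ : fr'.Q = fr.D)

include hD hQ

theorem root_rot {a : G} (ha : a ∈ (P : Subgroup G)) (h : fr.pr a * fr.pr a = fr.z) : fr.pr a ∈ zpowers fr.r := by
  by_contra hr
  exact fr.z_ne_one (h.symm.trans (fr.refl_sq ⟨fr.pr_mem ha, hr⟩))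

theorem not_rootsCommute : ¬ RootsCommute P fr.z := by
  intro h
  have hq : ∀ {q}, fr'.IsRefl q → fr.x * q ∈ (P : Subgroup G) ∧ fr.x * q * (fr.x * q) = fr.z := fun {q} hr => by
    have hqQ : q ∈ fr.Q := hD.le hr.1
    refine ⟨P.mul_mem (fr.D_le fr.x_mem) (fr.Q_le hqQ), ?_⟩
    calc fr.x * q * (fr.x * q) = fr.x * (q * fr.x) * q := by group
      _ = fr.x * fr.x * (q * q) := by rw [← fr.commute_DQ fr.x_mem hqQ]; group
      _ = fr.z := by rw [fr'.refl_sq hr, mul_one, fr.x_mul_x]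
  have hs := fr'.isRefl_s
  have hsr := fr'.isRefl_mul (mem_zpowers fr'.r) hs
  have hc := h _ (hq hs).1 _ (hq hsr).1 (hq hs).2 (hq hsr).2
  have e := congrArg fr'.pr hc
  rw [fr'.pr_mul (hq hs).1 (hq hsr).1, fr'.pr_mul (hq hsr).1 (hq hs).1,
    fr'.pr_mul (fr.D_le fr.x_mem) (fr'.D_le hs.1), fr'.pr_mul (fr.D_le fr.x_mem) (fr'.D_le hsr.1),
    fr'.pr_of_mem_Q (hQ.ge fr.x_mem), fr'.pr_of_mem_D hs.1, fr'.pr_of_mem_D hsr.1, one_mul, one_mul] at e
  rcases fr'.inV_refl hs (fr'.inV_of_commute hs hsr.1 e.symm) with e' | ⟨-, e'⟩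
  · rcases e' with e' | e'
    exacts [(fr'.refl_ne hsr).1 e', (fr'.refl_ne hsr).2 e']
  · have hr1 : fr'.r = 1 ∨ fr'.r = fr'.z := by
      rcases e' with e' | e'
      exacts [Or.inl (mul_eq_left.mp e'), Or.inr (mul_left_cancel e')]
    have h1 : fr'.r ^ 2 = 1 := by
      rcases hr1 with h1 | h1 <;> rw [h1]
      · rw [one_pow]
      · rw [pow_two, fr'.z_mul_z]
    have := Nat.le_of_dvd two_pos (fr'.order_r ▸ orderOf_dvd_of_pow_eq_one h1)
    have := fr'.l_pos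
    omega

theorem rootsCommute_prod : RootsCommute P (fr.z * fr'.z) := by
  intro a ha b hb ha2 hb2
  have hz' : fr.pr fr'.z = 1 := fr.pr_of_mem_Q (hD.le fr'.z_mem)
  have hz : fr'.pr fr.z = 1 := fr'.pr_of_mem_Q (hQ.ge fr.z_mem)
  have hzS := fr.D_le fr.z_mem
  have hzS' := fr'.D_le fr'.z_mem
  have key : ∀ {c}, c ∈ (P : Subgroup G) → c * c = fr.z * fr'.z →
      fr.pr c ∈ zpowers fr.r ∧ fr'.pr c ∈ zpowers fr'.r := by
    intro c hc hc2
    refine ⟨fr.root_rot fr' hD hQ hc ?_, fr'.root_rot fr hQ.symm hD.symm hc ?_⟩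
    · rw [← fr.pr_mul hc hc, hc2, fr.pr_mul hzS hzS', fr.pr_of_mem_D fr.z_mem, hz', mul_one]
    · rw [← fr'.pr_mul hc hc, hc2, fr'.pr_mul hzS hzS', fr'.pr_of_mem_D fr'.z_mem, hz, one_mul]
  obtain ⟨a1, a2⟩ := key ha ha2
  obtain ⟨b1, b2⟩ := key hb hb2
  have c1 : Commute (fr.pr a) (fr'.pr b) := fr.commute_DQ (fr.pr_mem ha) (hD.le (fr'.pr_mem hb))
  have c2 : Commute (fr.pr b) (fr'.pr a) := fr.commute_DQ (fr.pr_mem hb) (hD.le (fr'.pr_mem ha))
  rw [fr.pr_eq_of_complement fr' hD hQ ha, fr.pr_eq_of_complement fr' hD hQ hb]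
  exact ((Commute.mul_right (show Commute (fr.pr a) (fr.pr b) from fr.rot_comm a1 b1) c1).mul_left
    (Commute.mul_right c2.symm (show Commute (fr'.pr a) (fr'.pr b) from fr'.rot_comm a2 b2))).eq

theorem conj_z_cases {g : G} (hg : g ∈ normalizer ((P : Subgroup G) : Set G)) :
    MulAut.conj g fr.z = fr.z ∨ MulAut.conj g fr.z = fr'.z ∨ MulAut.conj g fr.z = fr.z * fr'.z := by
  have hxS := conj_S hg (fr.D_le fr.x_mem)
  have hzS := conj_S hg (fr.D_le fr.z_mem)
  have e : MulAut.conj g fr.z = MulAut.conj g fr.x * MulAut.conj g fr.x := by rw [← map_mul, fr.x_mul_x]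
  have h2 : MulAut.conj g fr.z * MulAut.conj g fr.z = 1 := by rw [← map_mul, fr.z_mul_z, map_one]
  have key : ∀ f : Frame (P : Subgroup G), f.pr (MulAut.conj g fr.z) = 1 ∨ f.pr (MulAut.conj g fr.z) = f.z := by
    intro f
    refine f.eq_z_of_sq ?_ (by rw [← f.pr_mul hzS hzS, h2, f.pr_one])
    rw [e, f.pr_mul hxS hxS]
    by_cases hr : f.pr (MulAut.conj g fr.x) ∈ zpowers f.r
    · exact mul_mem hr hr
    · rw [f.refl_sq ⟨f.pr_mem hxS, hr⟩]; exact one_mem _
  have hsp := fr.pr_eq_of_complement fr' hD hQ hzS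
  rcases key fr with h | h <;> rcases key fr' with h' | h' <;> rw [h, h'] at hsp
  · exact absurd ((MulEquiv.map_eq_one_iff _).mp (hsp.trans (mul_one 1))) fr.z_ne_one
  · exact Or.inr (Or.inl (by rwa [one_mul] at hsp))
  · exact Or.inl (by rwa [mul_one] at hsp)
  · exact Or.inr (Or.inr hsp)

theorem conj_z_odd {g : G} (hg : g ∈ normalizer ((P : Subgroup G) : Set G)) (ho : Odd (orderOf g)) :
    MulAut.conj g fr.z = fr.z := by
  have key : ∀ f f' : Frame (P : Subgroup G), f'.D = f.Q → f'.Q = f.D →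
      MulAut.conj g f.z = f.z ∨ MulAut.conj g f.z = f'.z := by
    intro f f' hfD hfQ
    rcases f.conj_z_cases f' hfD hfQ hg with h | h | h
    · exact Or.inl h
    · exact Or.inr h
    · exfalso
      refine f.not_rootsCommute f' hfD hfQ ?_
      have := rootsCommute_conj (inv_mem hg) (f.rootsCommute_prod f' hfD hfQ)
      rwa [← h, conj_inv_conj] at this
  rcases key fr fr' hD hQ with h | h
  · exact h
  · refine fix_of_sq_fix ho ?_
    rcases key fr' fr hQ.symm hD.symm with h' | h'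
    · have := (MulAut.conj g).injective (h.trans h'.symm)
      rw [h, h', this]
    · rw [h, h']

theorem closure_inv : fr.Q ≤ closure {q | q ∈ fr.Q ∧ q * q = 1} := by
  rw [← hD]; exact fr'.D_le_closure

theorem oddFix : fr.OddFix := fun _ hg ho _ ha =>
  fr.pr_conj_odd hg (fr.conj_z_odd fr' hD hQ hg ho) (fr.closure_inv fr' hD hQ) ho ha

/-- Odd order elements of the normalizer centralize `S`. -/
theorem conj_odd_eq {g : G} (hg : g ∈ normalizer ((P : Subgroup G) : Set G)) (ho : Odd (orderOf g)) {a : G}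
    (ha : a ∈ (P : Subgroup G)) : MulAut.conj g a = a := by
  have hgS := conj_S hg ha
  have h1 := fr.mem_centreD.mp (fr.oddFix fr' hD hQ g hg ho a ha)
  have h2 := fr'.mem_centreD.mp (fr'.oddFix fr hQ.symm hD.symm g hg ho a ha)
  have hz := fr.conj_z_odd fr' hD hQ hg ho
  have hz' := fr'.conj_z_odd fr hQ.symm hD.symm hg ho
  obtain ⟨c, hc, hfc, hcS, hc2⟩ : ∃ c, MulAut.conj g a = a * c ∧ MulAut.conj g c = c ∧ c ∈ (P : Subgroup G) ∧
      c * c = 1 := by
    refine ⟨((fr.pr a)⁻¹ * fr.pr (MulAut.conj g a)) * ((fr'.pr a)⁻¹ * fr'.pr (MulAut.conj g a)), ?_, ?_, ?_, ?_⟩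
    · have e1 := fr.pr_eq_of_complement fr' hD hQ hgS
      have e2 := fr.pr_eq_of_complement fr' hD hQ ha
      have c1 : Commute ((fr.pr a)⁻¹ * fr.pr (MulAut.conj g a)) (fr'.pr a) :=
        fr.commute_DQ (fr.D.mul_mem (fr.D.inv_mem (fr.pr_mem ha)) (fr.pr_mem hgS)) (hD.le (fr'.pr_mem ha))
      conv_lhs => rw [e1]
      conv_rhs => enter [1]; rw [e2]
      rw [← mul_assoc, mul_assoc (fr.pr a), ← c1.eq]
      group
    · rw [map_mul]
      rcases h1 with h1 | h1 <;> rcases h2 with h2 | h2 <;> rw [h1, h2] <;> simp only [map_one, hz, hz']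
    · exact P.mul_mem (P.mul_mem (P.inv_mem (fr.D_le (fr.pr_mem ha))) (fr.D_le (fr.pr_mem hgS)))
        (P.mul_mem (P.inv_mem (fr'.D_le (fr'.pr_mem ha))) (fr'.D_le (fr'.pr_mem hgS)))
    · rcases h1 with h1 | h1 <;> rcases h2 with h2 | h2 <;> rw [h1, h2]
      · simp
      · simp [fr'.z_mul_z]
      · simp [fr.z_mul_z]
      · calc fr.z * fr'.z * (fr.z * fr'.z) = fr.z * (fr'.z * fr.z) * fr'.z := by group
          _ = fr.z * fr.z * (fr'.z * fr'.z) := by rw [← fr.commute_DQ fr.z_mem (hD.le fr'.z_mem)]; group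
          _ = 1 := by rw [fr.z_mul_z, fr'.z_mul_z, one_mul]
  refine fix_of_sq_fix ho ?_
  rw [hc, map_mul, hc, hfc, mul_assoc, hc2, mul_one]

theorem otherTypical : fr.OtherTypical := by
  intro E hE hn
  have hle : fr'.Q ≤ E := by
    rw [hQ]
    exact (fr.D_le_or fr' hD hQ hE).resolve_right fun h => hn (hD ▸ h)
  obtain ⟨t', h⟩ := fr'.typical_of_Q_le hE hle
  exact ⟨fr', t', hD, hQ, h⟩

omit hQ in
theorem pr_mover_other {w : G} (hw : w ∈ fr.Movers) : fr'.pr w = 1 ∨ fr'.pr w = fr'.z := by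
  obtain ⟨E, t, g, h, -, -, -, hU⟩ := fr.movers_spec hw
  exact h.pr_other hD hU

/-- Both factors non-abelian: there are strongly closed complements. -/
theorem exists_closed (hres : Cfsg.pResidual 2 G = ⊤) : ∃ A B : Frame (P : Subgroup G),
    A.Q = B.D ∧ IsStronglyClosed A.D (P : Subgroup G) ∧
      IsStronglyClosed B.D (P : Subgroup G) := by
  obtain ⟨A₀, hAQ, hAz, hArot, hAsub, hAgen⟩ :=
    fr.exists_straight hres (fr.oddFix fr' hD hQ) (fr.otherTypical fr' hD hQ)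
  obtain ⟨B₀, hBQ, hBz, hBrot, hBsub, hBgen⟩ :=
    fr'.exists_straight hres (fr'.oddFix fr hQ.symm hD.symm) (fr'.otherTypical fr hQ.symm hD.symm)
  -- elements of the new complements
  have hsmall : ∀ (f f' : Frame (P : Subgroup G)), f'.D = f.Q → ∀ d ∈ closure f.Movers,
      d ∈ (P : Subgroup G) ∧ f'.pr d ∈ f'.centreD := by
    intro f f' hfD d hd
    induction hd using closure_induction with
    | mem w hw => exact ⟨(f.mover_props hw).1, f'.mem_centreD.mpr (f.pr_mover_other f' hfD hw)⟩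
    | one => exact ⟨P.one_mem, by rw [f'.pr_one]; exact one_mem _⟩
    | mul a b _ _ iha ihb => exact ⟨P.mul_mem iha.1 ihb.1, by rw [f'.pr_mul iha.1 ihb.1]; exact mul_mem iha.2 ihb.2⟩
    | inv a _ iha => exact ⟨P.inv_mem iha.1, by rw [f'.pr_inv iha.1]; exact inv_mem iha.2⟩
  have hA : ∀ d ∈ A₀.D, fr'.pr d ∈ fr'.centreD := fun d hd => (hsmall fr fr' hD d (hAgen hd)).2
  have hB : ∀ d ∈ B₀.D, fr.pr d ∈ fr.centreD := fun d hd => (hsmall fr' fr hQ.symm d (hBgen hd)).2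
  have hzA : fr.z ∈ A₀.D := hAz ▸ A₀.z_mem
  have hzB : fr'.z ∈ B₀.D := hBz ▸ B₀.z_mem
  have hzA' : fr'.z ∉ A₀.D := fun h => fr'.z_ne_one (A₀.eq_one_of_mem h (hAQ.ge (hD.le fr'.z_mem)))
  have hzB' : fr.z ∉ B₀.D := fun h => fr.z_ne_one (B₀.eq_one_of_mem h (hBQ.ge (hQ.ge fr.z_mem)))
  have hinf : A₀.D ⊓ B₀.D = ⊥ := by
    rw [eq_bot_iff]
    rintro a ⟨ha, hb⟩
    have haS := A₀.D_le ha
    have e := fr.pr_eq_of_complement fr' hD hQ haS
    rcases fr.mem_centreD.mp (hB a hb) with h1 | h1 <;> rcases fr'.mem_centreD.mp (hA a ha) with h2 | h2 <;>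
      rw [h1, h2] at e <;> rw [e] at ha hb ⊢
    · simp
    · rw [one_mul] at ha; exact absurd ha hzA'
    · rw [mul_one] at hb; exact absurd hb hzB'
    · exact absurd ((A₀.D.mul_mem_cancel_left hzA).mp ha) hzA'
  have hQA : fr.Q ≤ B₀.D ⊔ zpowers fr.z := by
    intro q hq
    obtain ⟨d, hd, c, hc, rfl⟩ := B₀.exists_decomp (fr.Q_le hq)
    have h1 := fr.pr_of_mem_Q hq
    have hcD : c ∈ fr.D := hQ.le (hBQ.le hc)
    rw [fr.pr_mul (B₀.D_le hd) (B₀.Q_le hc), fr.pr_of_mem_D hcD] at h1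
    refine mul_mem (mem_sup_left hd) (mem_sup_right ?_)
    rw [eq_inv_of_mul_eq_one_right h1]
    exact inv_mem (hB d hd)
  have hQB : fr'.Q ≤ A₀.D ⊔ zpowers fr'.z := by
    intro q hq
    obtain ⟨d, hd, c, hc, rfl⟩ := A₀.exists_decomp (fr'.Q_le hq)
    have h1 := fr'.pr_of_mem_Q hq
    have hcD : c ∈ fr'.D := hD.ge (hAQ.le hc)
    rw [fr'.pr_mul (A₀.D_le hd) (A₀.Q_le hc), fr'.pr_of_mem_D hcD] at h1
    refine mul_mem (mem_sup_left hd) (mem_sup_right ?_)
    rw [eq_inv_of_mul_eq_one_right h1]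
    exact inv_mem (hA d hd)
  have hle : zpowers fr.z ≤ A₀.D ∧ zpowers fr'.z ≤ B₀.D := ⟨zpowers_le.mpr hzA, zpowers_le.mpr hzB⟩
  have hprod : IsInternalDirectProduct A₀.D B₀.D (P : Subgroup G) := by
    refine ⟨A₀.D_le, B₀.D_le, fun a ha b hb => ?_, hinf, le_antisymm (sup_le A₀.D_le B₀.D_le) ?_⟩
    · have haS := A₀.D_le ha
      have hbS := B₀.D_le hb
      have c1 : Commute (fr.pr a) (fr'.pr b) := fr.commute_DQ (fr.pr_mem haS) (hD.le (fr'.pr_mem hbS))
      have c2 : Commute (fr.pr b) (fr'.pr a) := fr.commute_DQ (fr.pr_mem hbS) (hD.le (fr'.pr_mem haS))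
      have c3 : Commute (fr.pr a) (fr.pr b) := by
        rcases fr.mem_centreD.mp (hB b hb) with h | h <;> rw [h]
        exacts [Commute.one_right _, fr.z_comm_D (fr.pr_mem haS)]
      have c4 : Commute (fr'.pr a) (fr'.pr b) := by
        rcases fr'.mem_centreD.mp (hA a ha) with h | h <;> rw [h]
        exacts [Commute.one_left _, (fr'.z_comm_D (fr'.pr_mem hbS)).symm]
      rw [fr.pr_eq_of_complement fr' hD hQ haS, fr.pr_eq_of_complement fr' hD hQ hbS]
      exact ((c3.mul_right c1).mul_left (c2.symm.mul_right c4)).eq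
    · refine fr.prod.2.2.2.2.symm.le.trans (sup_le ?_ ?_)
      · rw [← hQ]; exact hQB.trans (sup_le le_sup_left (hle.2.trans le_sup_right))
      · exact hQA.trans (sup_le le_sup_right (hle.1.trans le_sup_left))
  let A : Frame (P : Subgroup G) := { A₀ with Q := B₀.D, prod := hprod }
  let B : Frame (P : Subgroup G) := { B₀ with Q := A₀.D, prod := isInternalDirectProduct_symm hprod }
  have mov : ∀ (f f₀ f' F : Frame (P : Subgroup G)), f₀.Q = f.Q → f₀.z = f.z → f₀.rotQ = f.rotQ → F.r = f₀.r →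
      F.z = f₀.z → f'.D = f.Q → f.Q ≤ F.Q ⊔ zpowers f.z → F.Q ≤ f.Q ⊔ zpowers f.z → F.Movers = f.Movers := by
    intro f f₀ f' F h1 h2 h3 h4 h5 _ h6 h7
    refine f.movers_congr (fun E hE => ⟨fun h => h6.trans (sup_le h (zpowers_le.mpr (f.centreD_mem hE))),
      fun h => h7.trans (sup_le h (zpowers_le.mpr (f.centreD_mem hE)))⟩) (h5.trans h2) ?_
    have hz : f.z ∈ zpowers f₀.r := h2 ▸ f₀.z_mem_rot
    rw [← h3]
    show zpowers F.r ⊔ F.Q = zpowers f₀.r ⊔ f₀.Q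
    rw [h4, h1]
    exact le_antisymm (sup_le le_sup_left (h7.trans (sup_le le_sup_right ((zpowers_le.mpr hz).trans le_sup_left))))
      (sup_le le_sup_left (h6.trans (sup_le le_sup_right ((zpowers_le.mpr hz).trans le_sup_left))))
  have hA7 : B₀.D ≤ fr.Q ⊔ zpowers fr.z := by
    intro d hd
    have hdS := B₀.D_le hd
    rw [fr.pr_eq_of_complement fr' hD hQ hdS]
    exact mul_mem (mem_sup_right (hB d hd)) (mem_sup_left (hD.le (fr'.pr_mem hdS)))
  have hB7 : A₀.D ≤ fr'.Q ⊔ zpowers fr'.z := by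
    intro d hd
    have hdS := A₀.D_le hd
    rw [fr.pr_eq_of_complement fr' hD hQ hdS]
    exact mul_mem (mem_sup_left (hQ.ge (fr.pr_mem hdS))) (mem_sup_right (hA d hd))
  have hmA : A.Movers = fr.Movers := mov fr A₀ fr' A hAQ hAz hArot rfl rfl hD hQA hA7
  have hmB : B.Movers = fr'.Movers := mov fr' B₀ fr B hBQ hBz hBrot rfl rfl hQ.symm hQB hB7
  refine ⟨A, B, rfl, ?_, ?_⟩
  · refine A.isStronglyClosed_D (hmA ▸ hAsub) (hmA.symm ▸ hAgen) (A.otherTypical B rfl rfl) fun g hg ho a ha => ?_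
    rw [fr.conj_odd_eq fr' hD hQ hg ho ha]
  · refine B.isStronglyClosed_D (hmB ▸ hBsub) (hmB.symm ▸ hBgen) (B.otherTypical A rfl rfl) fun g hg ho a ha => ?_
    rw [fr.conj_odd_eq fr' hD hQ hg ho ha]

end Frame

end CfsgLib.AfterFT.DihedralSquare
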