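import Cfsg.Agent.Lib.AfterFT.DihedralSquare.Closed
import Cfsg.Agent.Lib.AfterFT.DihedralSquare.Pair

/-!
One factor is a four-group.
-/

set_option autoImplicit false
set_option linter.unusedSectionVars false

namespace CfsgLib.AfterFT.DihedralSquare

open Cfsg Cfsg.FusionSystem Subgroup
open scoped commutatorElement

universe u
variable {G : Type u} [Group G] [Finite G] {P : Sylow 2 G}

namespace Frame

variable (fr : Frame (P : Subgroup G)) (hQ2 : ∀ q ∈ fr.Q, q * q = 1)

include hQ2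

theorem Q_comm {q : G} (hq : q ∈ fr.Q) {s : G} (hs : s ∈ (P : Subgroup G)) : q * s = s * q := by
  obtain ⟨d, hd, c, hc, rfl⟩ := fr.exists_decomp hs
  have e : ∀ c ∈ fr.Q, c⁻¹ = c := fun c hc => inv_eq_of_mul_eq_one_left (hQ2 c hc)
  have hqc : q * c = c * q := by
    have := e _ (fr.Q.mul_mem hq hc)
    rw [mul_inv_rev, e q hq, e c hc] at this
    exact this.symm
  rw [← mul_assoc, ← fr.commute_DQ hd hq, mul_assoc, hqc, mul_assoc]

theorem Q_le_essential {E : Subgroup G} (hE : (groupFusionSystem (P : Subgroup G)).IsEssential 2 E) : fr.Q ≤ E :=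
  fun q hq => hE.1.centralizerIn_le_self
    ⟨fr.Q_le hq, mem_centralizer_iff.mpr fun y hy => (fr.Q_comm hQ2 hq (hE.1.1 hy)).symm⟩

theorem otherTypical_klein : fr.OtherTypical := fun _ hE hn => absurd (fr.Q_le_essential hQ2 hE) hn

theorem conj_z_klein {g : G} (hg : g ∈ normalizer ((P : Subgroup G) : Set G)) : MulAut.conj g fr.z = fr.z := by
  have hxS := conj_S hg (fr.D_le fr.x_mem)
  have hzS := conj_S hg (fr.D_le fr.z_mem)
  have e : MulAut.conj g fr.z = MulAut.conj g fr.x * MulAut.conj g fr.x := by rw [← map_mul, fr.x_mul_x]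
  set a := MulAut.conj g fr.x with ha
  have hq := (fr.pr_spec hxS).2
  have hc : Commute (fr.pr a) ((fr.pr a)⁻¹ * a) := fr.commute_DQ (fr.pr_mem hxS) hq
  have hsq : a * a = fr.pr a * fr.pr a := by
    have := hc.mul_pow 2
    rw [mul_inv_cancel_left, pow_two, pow_two, pow_two, hQ2 _ hq, mul_one] at this
    exact this
  have hmem : MulAut.conj g fr.z ∈ zpowers fr.r := by
    rw [e, hsq]
    by_cases hr : fr.pr a ∈ zpowers fr.r
    · exact mul_mem hr hr
    · rw [fr.refl_sq ⟨fr.pr_mem hxS, hr⟩]; exact one_mem _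
  refine (fr.eq_z_of_sq hmem ?_).resolve_left fun h => fr.z_ne_one ((MulEquiv.map_eq_one_iff _).mp h)
  rw [← map_mul, fr.z_mul_z, map_one]

theorem oddFix_klein : fr.OddFix := fun _ hg ho _ ha =>
  fr.pr_conj_odd hg (fr.conj_z_klein hQ2 hg) (fun _ hq => subset_closure ⟨hq, hQ2 _ hq⟩) ho ha

/-- The subgroup above `{1, z}`: the centre of `S`. -/
theorem central_props {a : G} (ha : a ∈ (P : Subgroup G)) (hpr : fr.pr a ∈ fr.centreD) :
    a * a = 1 ∧ ∀ s ∈ (P : Subgroup G), a * s = s * a := by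
  have hq := (fr.pr_spec ha).2
  have hc : fr.pr a * fr.pr a = 1 ∧ ∀ s ∈ (P : Subgroup G), fr.pr a * s = s * fr.pr a := by
    rcases fr.mem_centreD.mp hpr with h | h <;> rw [h]
    exacts [⟨one_mul 1, fun s _ => by simp⟩, ⟨fr.z_mul_z, fun s hs => fr.z_comm hs⟩]
  refine ⟨?_, fun s hs => ?_⟩
  · have := (show Commute (fr.pr a) ((fr.pr a)⁻¹ * a) from fr.commute_DQ (fr.pr_mem ha) hq).mul_pow 2
    rwa [mul_inv_cancel_left, pow_two, pow_two, pow_two, hc.1, hQ2 _ hq, mul_one] at this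
  · have h1 : Commute (fr.pr a) s := hc.2 s hs
    have h2 : Commute ((fr.pr a)⁻¹ * a) s := fr.Q_comm hQ2 hq hs
    have := (h1.mul_left h2).eq
    rwa [mul_inv_cancel_left] at this

/-- The twisted four-group. -/
def twist : Subgroup G :=
  closure {y | ∃ g m, g ∈ normalizer ((P : Subgroup G) : Set G) ∧ Odd (orderOf g) ∧ m ∈ (P : Subgroup G) ∧
    fr.pr m ∈ fr.centreD ∧ y = m⁻¹ * MulAut.conj g m}

theorem twist_props {y : G} (hy : y ∈ fr.twist) : y ∈ (P : Subgroup G) ∧ fr.pr y ∈ fr.centreD := by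
  induction hy using closure_induction with
  | mem y hy =>
    obtain ⟨g, m, hg, ho, hm, hpm, rfl⟩ := hy
    refine ⟨P.mul_mem (P.inv_mem hm) (conj_S hg hm), ?_⟩
    rw [fr.pr_mul (P.inv_mem hm) (conj_S hg hm), fr.pr_inv hm]
    exact fr.oddFix_klein hQ2 g hg ho m hm
  | one => exact ⟨P.one_mem, by rw [fr.pr_one]; exact one_mem _⟩
  | mul a b _ _ iha ihb => exact ⟨P.mul_mem iha.1 ihb.1, by rw [fr.pr_mul iha.1 ihb.1]; exact mul_mem iha.2 ihb.2⟩
  | inv a _ iha => exact ⟨P.inv_mem iha.1, by rw [fr.pr_inv iha.1]; exact inv_mem iha.2⟩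

theorem twist_conj {h : G} (hh : h ∈ normalizer ((P : Subgroup G) : Set G)) (ho : Odd (orderOf h)) {y : G}
    (hy : y ∈ fr.twist) : MulAut.conj h y ∈ fr.twist := by
  induction hy using closure_induction with
  | mem y hy =>
    obtain ⟨g, m, hg, hog, hm, hpm, rfl⟩ := hy
    refine subset_closure ⟨h * g * h⁻¹, MulAut.conj h m, mul_mem (mul_mem hh hg) (inv_mem hh), ?_, conj_S hh hm, ?_, ?_⟩
    · rwa [show h * g * h⁻¹ = MulAut.conj h g from rfl, MulEquiv.orderOf_eq]
    · have := fr.oddFix_klein hQ2 h hh ho m hm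
      have h2 := mul_mem hpm this
      rwa [mul_inv_cancel_left] at h2
    · rw [map_mul, map_inv, map_mul MulAut.conj (h * g) h⁻¹, map_mul MulAut.conj h g, MulAut.mul_apply,
        MulAut.mul_apply, conj_inv_conj]
  | one => rw [map_one]; exact one_mem _
  | mul a b _ _ iha ihb => rw [map_mul]; exact mul_mem iha ihb
  | inv a _ iha => rw [map_inv]; exact inv_mem iha

/-- An odd element maps movers to movers. -/
theorem conj_mover {h : G} (hh : h ∈ normalizer ((P : Subgroup G) : Set G)) (ho : Odd (orderOf h))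
    {E : Subgroup G} {t g : G} (hT : Typical fr E t) (hg : g ∈ normalizer (E : Set G))
    (hr : fr.IsRefl (fr.pr (MulAut.conj g fr.z))) :
    h ∈ normalizer (E : Set G) ∧ fr.IsRefl (fr.pr (MulAut.conj (h * g) fr.z)) ∧
      MulAut.conj h (MulAut.conj g fr.z) = MulAut.conj g fr.z := by
  have hE : h ∈ normalizer (E : Set G) := by
    refine mem_normalizer_fintype fun a ha => ?_
    obtain ⟨haS, hv⟩ := (hT.mem a).mp ha
    refine (hT.mem _).mpr ⟨conj_S hh haS, ?_⟩
    have hcd := fr.oddFix_klein hQ2 h hh ho a haS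
    have : fr.InV t (fr.pr a * ((fr.pr a)⁻¹ * fr.pr (MulAut.conj h a))) := by
      refine fr.inV_mul hT.refl hv ?_
      rcases fr.mem_centreD.mp hcd with e | e <;> rw [e]
      exacts [Or.inl rfl, Or.inr (Or.inl rfl)]
    rwa [mul_inv_cancel_left] at this
  have hwU := omegaZ_conj hg hT.z_mem_U
  have hwS := hT.le hwU.1
  have hr' : fr.IsRefl (fr.pr (MulAut.conj (h * g) fr.z)) := by
    rw [map_mul, MulAut.mul_apply]
    have hcd := fr.oddFix_klein hQ2 h hh ho _ hwS
    have : fr.IsRefl (fr.pr (MulAut.conj g fr.z) *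
        ((fr.pr (MulAut.conj g fr.z))⁻¹ * fr.pr (MulAut.conj h (MulAut.conj g fr.z)))) :=
      fr.isRefl_mul (zpowers_le.mpr fr.z_mem_rot hcd) hr
    rwa [mul_inv_cancel_left] at this
  refine ⟨hE, hr', ?_⟩
  have := hT.centre_unique hg (mul_mem hE hg) hr hr'
  rw [map_mul, MulAut.mul_apply] at this
  rcases this with e | e
  · exact e
  · refine fix_of_sq_fix ho ?_
    rw [e, map_mul, fr.conj_z_klein hQ2 hh, e, ← mul_assoc, fr.z_mul_z, one_mul]

/-- The transvections fix the twisted four-group. -/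
theorem fix_twist {E : Subgroup G} {t g : G} (hT : Typical fr E t) (hg : g ∈ normalizer (E : Set G))
    (hr : fr.IsRefl (fr.pr (MulAut.conj g fr.z))) {y : G} (hy : y ∈ fr.twist) :
    MulAut.conj (g * fr.x * g⁻¹) y = y := by
  induction hy using closure_induction with
  | one => exact map_one _
  | mul a b _ _ iha ihb => rw [map_mul, iha, ihb]
  | inv a _ iha => rw [map_inv, iha]
  | mem y hy =>
    obtain ⟨h, m, hh, ho, hm, hpm, rfl⟩ := hy
    set k := g * fr.x * g⁻¹ with hk
    set w := MulAut.conj g fr.z with hw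
    obtain ⟨hhE, hr', hfix⟩ := fr.conj_mover hQ2 hh ho hT hg hr
    obtain ⟨hm2, hmc⟩ := fr.central_props hQ2 hm hpm
    have hmE : m ∈ omegaZ E := ⟨hT.ess.1.centralizerIn_le_self
      ⟨hm, mem_centralizer_iff.mpr fun y hy => (hmc y (hT.le hy)).symm⟩, hm2, fun e he => hmc e (hT.le he)⟩
    set k' := h * g * fr.x * (h * g)⁻¹ with hk'
    have hhg := mul_mem hhE hg
    have hcentre : MulAut.conj (h * g) fr.z = w := by rw [map_mul, MulAut.mul_apply]; exact hfix
    have hwU := omegaZ_conj hg hT.z_mem_U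
    have hkT : IsTrans (omegaZ E) k w := fun a ha => hT.trans_conj hg a ha.1
    have hkT' : IsTrans (omegaZ E) k' w := fun a ha => hcentre ▸ hT.trans_conj hhg a ha.1
    have hk'w : MulAut.conj k' w = w := by
      have := hT.conj_fix (g := h * g)
      rwa [hcentre] at this
    have hmv := hT.moves hg hr
    have hmv' := hT.moves hhg hr'
    have hk0 := hT.eq_of_commute (hT.exists_conj g hg) (hT.exists_conj _ hhg)
      (fun a ha => hT.conj_involutive hg ha) (fun a ha => hT.conj_involutive hhg ha)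
      (fun a ha => trans_commute omegaZ_comm hwU hwU hkT hkT' hT.conj_fix hk'w ha)
      ⟨_, hT.z_mem_U, fun e => hT.w_ne_one g (mul_eq_left.mp (hmv.symm.trans e))⟩
      ⟨_, hT.z_mem_U, fun e => hT.w_ne_one _ (mul_eq_left.mp (hmv'.symm.trans e))⟩
    have e : MulAut.conj k' (MulAut.conj h m) = MulAut.conj h (MulAut.conj k m) := by
      rw [← MulAut.mul_apply, ← MulAut.mul_apply, ← map_mul, ← map_mul]
      congr 2
      rw [hk', hk]
      group
    rw [map_mul, map_inv, hk0 _ (omegaZ_conj hhE hmE), e]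
    rcases hT.trans_conj hg m hmE.1 with e' | e' <;> rw [e']
    rw [map_mul, hfix, mul_inv_rev, inv_eq_of_mul_eq_one_left hwU.2.1]
    have hc := hmc w (hT.le hwU.1)
    have hcm := (fr.central_props hQ2 (conj_S hh hm) (by
      have h2 := mul_mem hpm (fr.oddFix_klein hQ2 h hh ho m hm)
      rwa [mul_inv_cancel_left] at h2)).2 w (hT.le hwU.1)
    calc w * m⁻¹ * (MulAut.conj h m * w) = w * (m⁻¹ * w) * MulAut.conj h m := by rw [hcm]; group
      _ = w * (w * m⁻¹) * MulAut.conj h m := by rw [(show Commute m w from hc).inv_left.eq]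
      _ = m⁻¹ * MulAut.conj h m := by rw [← mul_assoc, hwU.2.1, one_mul]

/-- One factor a four-group: there are strongly closed complements. -/
theorem exists_closed_klein (hres : Cfsg.pResidual 2 G = ⊤) : ∃ (A : Frame (P : Subgroup G)) (T : Subgroup G),
    IsInternalDirectProduct A.D T (P : Subgroup G) ∧ IsStronglyClosed A.D (P : Subgroup G) ∧
      IsStronglyClosed T (P : Subgroup G) ∧ Nonempty (T ≃* fr.Q) := by
  haveI : Fact (Nat.Prime 2) := ⟨Nat.prime_two⟩
  obtain ⟨A, hAQ, hAz, hArot, hAsub, hAgen⟩ := fr.exists_straight hres (fr.oddFix_klein hQ2) (fr.otherTypical_klein hQ2)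
  have hmov : A.Movers = fr.Movers := fr.movers_congr (fun E _ => by rw [hAQ]) hAz hArot
  have hA2 : ∀ q ∈ A.Q, q * q = 1 := hAQ ▸ hQ2
  have hclosed : closure fr.Movers ≤ A.D := (closure_le _).mpr hAsub
  have hconjD : ∀ h ∈ normalizer ((P : Subgroup G) : Set G), Odd (orderOf h) → ∀ d ∈ A.D, MulAut.conj h d = d := by
    intro h hh ho d hd
    induction hAgen hd using closure_induction with
    | mem w hw =>
      obtain ⟨E, t, g, hT, hg, rfl, hr, -⟩ := fr.movers_spec hw
      exact (fr.conj_mover hQ2 hh ho hT hg hr).2.2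
    | one => exact map_one _
    | mul b c hb hc ihb ihc => rw [map_mul, ihb (hclosed hb), ihc (hclosed hc)]
    | inv b hb ihb => rw [map_inv, ihb (hclosed hb)]
  have hsc : IsStronglyClosed A.D (P : Subgroup G) := by
    refine A.isStronglyClosed_D (hmov ▸ hAsub) (hmov.symm ▸ hAgen) (A.otherTypical_klein hA2) fun h hh ho a ha => ?_
    refine ⟨fun hd => by rw [hconjD h hh ho a hd]; exact hd, fun hd => ?_⟩
    have := (MulAut.conj h).injective (hconjD h hh ho _ hd)
    rwa [this] at hd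
  -- the twisted four-group
  set T := fr.twist with hT
  have hTS : T ≤ (P : Subgroup G) := fun y hy => (fr.twist_props hQ2 hy).1
  have hTc : ∀ y ∈ T, ∀ s ∈ (P : Subgroup G), y * s = s * y := fun y hy =>
    (fr.central_props hQ2 (hTS hy) (fr.twist_props hQ2 hy).2).2
  obtain ⟨w, hw, -⟩ := fr.exists_mover hres (fr.oddFix_klein hQ2) (fr.otherTypical_klein hQ2) fr.isRefl_s
  obtain ⟨E₀, t₀, g₀, hT₀, hg₀, rfl, hr₀, -⟩ := fr.movers_spec hw
  have hzT : fr.z ∉ T := fun hz => by
    have := fr.fix_twist hQ2 hT₀ hg₀ hr₀ hz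
    rw [hT₀.moves hg₀ hr₀] at this
    exact hT₀.w_ne_one g₀ (mul_eq_left.mp this)
  have hinf : A.D ⊓ T = ⊥ := by
    rw [eq_bot_iff]
    rintro a ⟨haD, haT⟩
    have hpa := (fr.twist_props hQ2 haT).2
    have hrot : a ∈ zpowers A.r := by
      have h1 : a ∈ A.rotQ := by
        rw [hArot]
        exact fr.mem_rotQ.mpr ⟨hTS haT, zpowers_le.mpr fr.z_mem_rot hpa⟩
      have h2 := (A.mem_rotQ.mp h1).2
      rwa [A.pr_of_mem_D haD] at h2
    rcases A.eq_z_of_sq hrot (fr.central_props hQ2 (hTS haT) hpa).1 with e | e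
    · exact mem_bot.mpr e
    · exact absurd (hAz ▸ e ▸ haT) hzT
  -- they generate
  set K := A.D ⊔ T with hK
  have hKS : K ≤ (P : Subgroup G) := sup_le A.D_le hTS
  let Rel : G → G → Prop := fun a b => a⁻¹ * b ∈ K
  have hsymm : ∀ {a b}, Rel a b → Rel b a := fun {a b} h => by
    have := inv_mem h
    rwa [mul_inv_rev, inv_inv] at this
  have htrans : ∀ {a b c}, Rel a b → Rel b c → Rel a c := fun {a b c} h h' => by
    have := mul_mem h h'
    rwa [mul_assoc, mul_inv_cancel_left] at this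
  have hinner : ∀ s ∈ (P : Subgroup G), ∀ a ∈ (P : Subgroup G), Rel a (s * a * s⁻¹) := fun s hs a ha => by
    refine mem_sup_left ?_
    obtain ⟨d, hd, q, hq, rfl⟩ := A.exists_decomp ha
    have hqs := A.Q_comm hA2 hq hs
    have h1 : d⁻¹ * (s * d * s⁻¹) ∈ A.D := A.D.mul_mem (A.D.inv_mem hd) (A.conj_mem_D hs hd)
    have h2 : Commute (d⁻¹ * (s * d * s⁻¹)) q := A.commute_DQ h1 hq
    have e : (d * q)⁻¹ * (s * (d * q) * s⁻¹) = d⁻¹ * (s * d * s⁻¹) := by
      calc (d * q)⁻¹ * (s * (d * q) * s⁻¹) = q⁻¹ * (d⁻¹ * (s * d * (q * s⁻¹))) := by group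
        _ = q⁻¹ * ((d⁻¹ * (s * d * s⁻¹)) * q) := by
          rw [show q * s⁻¹ = s⁻¹ * q from (show Commute q s from hqs).inv_right.eq]; group
        _ = d⁻¹ * (s * d * s⁻¹) := by rw [h2.eq, inv_mul_cancel_left]
    rwa [e]
  have hKtop : (P : Subgroup G) ≤ K := by
    have key : ∀ a ∈ (P : Subgroup G), ∀ g : G, g * a * g⁻¹ ∈ (P : Subgroup G) → Rel a (g * a * g⁻¹) := by
      intro a ha g hga
      refine A.rel_fusion (A.otherTypical_klein hA2) Rel hsymm htrans hinner ?_ ?_
        (fun fr' hD hQ E t h g hg hr => ?_) ha hga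
      · intro h hh ho a ha
        obtain ⟨d, hd, q, hq, rfl⟩ := A.exists_decomp ha
        show (d * q)⁻¹ * MulAut.conj h (d * q) ∈ K
        have hqS := A.Q_le hq
        have hqQ : q ∈ fr.Q := hAQ.le hq
        have hy : q⁻¹ * MulAut.conj h q ∈ T :=
          subset_closure ⟨h, q, hh, ho, hqS, by rw [fr.pr_of_mem_Q hqQ]; exact one_mem _, rfl⟩
        rw [map_mul, hconjD h hh ho d hd, mul_inv_rev, mul_assoc, inv_mul_cancel_left]
        exact mem_sup_right hy
      · intro E t h g hg hr a ha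
        show a⁻¹ * MulAut.conj (g * A.x * g⁻¹) a ∈ K
        rcases h.trans_conj hg a ha with e | e <;> rw [e]
        · rw [inv_mul_cancel]; exact one_mem _
        · rw [inv_mul_cancel_left]
          exact mem_sup_left (hAsub (hmov ▸ A.mem_movers h hg hr))
      · exfalso
        exact (h.ess.lt P.2 (groupFusionSystem_isSaturated P)).not_ge (fr'.prod.2.2.2.2 ▸
          sup_le (hD.le.trans (A.Q_le_essential hA2 h.ess)) h.Q_le)
    have hfoc := CfsgLib.Transfer.focalSubgroup_eq_of_pResidual_eq_top P hres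
    rw [Subgroup.focalSubgroup_def] at hfoc
    conv_lhs => rw [← hfoc]
    rw [closure_le]
    rintro y ⟨hy, a, ha, g, rfl⟩
    have e : ⁅a, g⁆ = a * (g * a⁻¹ * g⁻¹) := by rw [commutatorElement_def]; group
    have hg' : g * a⁻¹ * g⁻¹ ∈ (P : Subgroup G) := by
      have := mul_mem (inv_mem ha) hy
      rwa [e, inv_mul_cancel_left] at this
    have h := key a⁻¹ (inv_mem ha) g hg'
    rw [e]
    simpa [Rel] using h
  have hprod : IsInternalDirectProduct A.D T (P : Subgroup G) :=
    ⟨A.D_le, hTS, fun a ha b hb => (hTc b hb a (A.D_le ha)).symm, hinf, le_antisymm hKS hKtop⟩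
  have hTclosed : IsStronglyClosed T (P : Subgroup G) := by
    refine ⟨hTS, fun a ha g hga => ?_⟩
    refine (A.rel_fusion (A.otherTypical_klein hA2) (fun a b => a ∈ T ↔ b ∈ T) Iff.symm Iff.trans ?_ ?_ ?_
      (fun fr' hD hQ E t h g hg hr => ?_) (hTS ha) hga).mp ha
    · intro s hs b hb
      refine ⟨fun hb' => by rw [← hTc b hb' s hs, mul_inv_cancel_right]; exact hb', fun hb' => ?_⟩
      have e := hTc _ hb' s hs
      have : b = s * b * s⁻¹ := by
        calc b = s⁻¹ * (s * b * s⁻¹ * s) := by group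
          _ = s⁻¹ * (s * (s * b * s⁻¹)) := by rw [e]
          _ = s * b * s⁻¹ := by group
      rw [this]; exact hb'
    · intro h hh ho b _
      refine ⟨fr.twist_conj hQ2 hh ho, fun hb' => ?_⟩
      have := fr.twist_conj hQ2 (inv_mem hh) (by rwa [orderOf_inv]) hb'
      rwa [conj_inv_conj] at this
    · intro E t h g hg hr b hb
      -- the transvection fixes `T` pointwise
      obtain ⟨t', h'⟩ := fr.typical_of_Q_le h.ess (fr.Q_le_essential hQ2 h.ess)
      have hm := hmov ▸ A.mem_movers h hg hr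
      obtain ⟨-, -, hrw, -⟩ := fr.mover_props hm
      have hfix : ∀ y ∈ T, MulAut.conj (g * A.x * g⁻¹) y = y := fun y hy => by
        have hyS := hTS hy
        have hrz : fr.IsRefl (fr.pr (MulAut.conj g fr.z)) := by rw [← hAz]; exact hrw
        have h0 := fr.fix_twist hQ2 h' hg hrz hy
        have hyU : y ∈ omegaZ E := ⟨h.ess.1.centralizerIn_le_self
          ⟨hyS, mem_centralizer_iff.mpr fun e he => (hTc y hy e (h.le he)).symm⟩,
          (fr.central_props hQ2 hyS (fr.twist_props hQ2 hy).2).1, fun e he => hTc y hy e (h.le he)⟩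
        have hkT : IsTrans (omegaZ E) (g * A.x * g⁻¹) (MulAut.conj g A.z) := fun a ha => h.trans_conj hg a ha.1
        have hkT' : IsTrans (omegaZ E) (g * fr.x * g⁻¹) (MulAut.conj g A.z) := fun a ha => by
          rw [hAz]; exact h'.trans_conj hg a ha.1
        have hwU := omegaZ_conj hg h.z_mem_U
        have hmA := h.moves hg hr
        have hmF := h'.moves hg hrz
        have hcw : MulAut.conj (g * fr.x * g⁻¹) (MulAut.conj g A.z) = MulAut.conj g A.z := by
          rw [hAz]; exact h'.conj_fix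
        have := h'.eq_of_commute (h.exists_conj g hg) (h'.exists_conj g hg)
          (fun a ha => h.conj_involutive hg ha) (fun a ha => h'.conj_involutive hg ha)
          (fun a ha => trans_commute omegaZ_comm hwU hwU hkT hkT' h.conj_fix hcw ha)
          ⟨_, h.z_mem_U, fun e => h.w_ne_one g (mul_eq_left.mp (hmA.symm.trans e))⟩
          ⟨_, h'.z_mem_U, fun e => h'.w_ne_one g (mul_eq_left.mp (hmF.symm.trans e))⟩ y hyU
        rw [this, h0]
      refine ⟨fun hbT => by rw [hfix b hbT]; exact hbT, fun hbT => ?_⟩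
      have e := (MulAut.conj (g * A.x * g⁻¹)).injective (hfix _ hbT)
      rwa [e] at hbT
    · exfalso
      exact (h.ess.lt P.2 (groupFusionSystem_isSaturated P)).not_ge (fr'.prod.2.2.2.2 ▸
        sup_le (hD.le.trans (A.Q_le_essential hA2 h.ess)) h.Q_le)
  refine ⟨A, T, hprod, hsc, hTclosed, ?_⟩
  -- `T` is isomorphic to the old factor
  let φ : T →* fr.Q := MonoidHom.mk' (fun y => ⟨(A.pr y)⁻¹ * (y : G), hAQ ▸ (A.pr_spec (hTS y.2)).2⟩) fun a b => by
    refine Subtype.ext ?_
    show (A.pr ((a : G) * b))⁻¹ * ((a : G) * b) = (A.pr a)⁻¹ * a * ((A.pr b)⁻¹ * b)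
    rw [A.pr_mul (hTS a.2) (hTS b.2)]
    have h2 : Commute (A.pr (b : G))⁻¹ ((A.pr (a : G))⁻¹ * a) :=
      A.commute_DQ (A.D.inv_mem (A.pr_mem (hTS b.2))) (A.pr_spec (hTS a.2)).2
    rw [← mul_assoc _ (A.pr (b : G))⁻¹, ← h2.eq]
    group
  refine ⟨MulEquiv.ofBijective φ ⟨(injective_iff_map_eq_one φ).mpr fun y hy => ?_, fun q => ?_⟩⟩
  · have h1 := congrArg Subtype.val hy
    have h2 : A.pr (y : G) = y := by
      have : (A.pr (y : G))⁻¹ * (y : G) = 1 := h1
      exact inv_mul_eq_one.mp this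
    have : (y : G) ∈ A.D ⊓ T := ⟨h2 ▸ A.pr_mem (hTS y.2), y.2⟩
    rw [hinf, mem_bot] at this
    exact Subtype.ext this
  · have hqS := fr.Q_le q.2
    have hn : A.D ≤ normalizer (T : Set G) := fun d hd => mem_normalizer_fintype fun y hy => by
      rw [SetLike.mem_coe, ← hTc y hy d (A.D_le hd), mul_inv_cancel_right]; exact hy
    have hq' : (q : G) ∈ (↑(A.D ⊔ T) : Set G) := hKtop hqS
    rw [coe_mul_of_left_le_normalizer_right A.D T hn] at hq'
    obtain ⟨d, hd, y, hy, e⟩ := hq'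
    refine ⟨⟨y, hy⟩, Subtype.ext ?_⟩
    show (A.pr y)⁻¹ * y = (q : G)
    have hq1 := A.pr_of_mem_Q (hAQ.ge q.2)
    rw [← e, A.pr_mul (A.D_le hd) (hTS hy), A.pr_of_mem_D hd] at hq1
    rw [← eq_inv_of_mul_eq_one_left hq1]
    exact e

end Frame

end CfsgLib.AfterFT.DihedralSquare
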