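import Cfsg.Agent.Lib.AfterFT.DihedralSquare.Fusion
import Cfsg.Agent.Lib.TransferApps
import Mathlib.Data.ZMod.Basic
import Mathlib.FieldTheory.Finite.Basic

/-!
Odd order automorphisms of a Sylow subgroup with a dihedral direct factor.
-/

set_option autoImplicit false
set_option linter.unusedSectionVars false

namespace CfsgLib.AfterFT.DihedralSquare

open Cfsg Cfsg.FusionSystem Subgroup

universe u
variable {G : Type u} [Group G] [Finite G] {P : Sylow 2 G}

/-- It suffices to treat the elements of odd order of the normalizer. -/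
theorem rel_normalizer {Rel : G → G → Prop} (htrans : ∀ {a b c}, Rel a b → Rel b c → Rel a c)
    (hinner : ∀ s ∈ (P : Subgroup G), ∀ a ∈ (P : Subgroup G), Rel a (s * a * s⁻¹))
    (hodd : ∀ g ∈ normalizer ((P : Subgroup G) : Set G), Odd (orderOf g) →
      ∀ a ∈ (P : Subgroup G), Rel a (g * a * g⁻¹))
    {g : G} (hg : g ∈ normalizer ((P : Subgroup G) : Set G)) {a : G} (ha : a ∈ (P : Subgroup G)) :
    Rel a (g * a * g⁻¹) := by
  haveI : Fact (Nat.Prime 2) := ⟨Nat.prime_two⟩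
  obtain ⟨k, m, hm, hk⟩ := Nat.exists_eq_two_pow_mul_odd (orderOf_pos g).ne'
  obtain ⟨A, B, hAB⟩ : ∃ A B : ℤ, (2 : ℤ) ^ k * A + (m : ℤ) * B = 1 := by
    have : Nat.Coprime (2 ^ k) m := (Nat.coprime_two_left.mpr hm).pow_left k
    refine ⟨Nat.gcdA (2 ^ k) m, Nat.gcdB (2 ^ k) m, ?_⟩
    have h := Nat.gcd_eq_gcd_ab (2 ^ k) m
    rw [this] at h
    push_cast at h
    linarith
  set go := g ^ ((2 : ℤ) ^ k * A)
  set g2 := g ^ ((m : ℤ) * B)
  have hg0 : ∀ n : ℤ, ((orderOf g : ℤ) ∣ n) → g ^ n = 1 := fun n hn => orderOf_dvd_iff_zpow_eq_one.mp hn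
  have h2 : g2 ∈ (P : Subgroup G) := by
    refine CfsgLib.TransferApps.mem_sylow_of_mem_normalizer P (zpow_mem hg _) ⟨k, ?_⟩
    rw [← zpow_natCast, ← zpow_mul]
    exact hg0 _ ⟨B, by rw [hk]; push_cast; ring⟩
  have ho : go ∈ normalizer ((P : Subgroup G) : Set G) := zpow_mem hg _
  have hoo : Odd (orderOf go) := hm.of_dvd_nat (orderOf_dvd_of_pow_eq_one (by
    rw [← zpow_natCast, ← zpow_mul]
    exact hg0 _ ⟨A, by rw [hk]; push_cast; ring⟩))
  have e : g = g2 * go := by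
    rw [← zpow_add, add_comm, hAB, zpow_one]
  have h1 := hodd go ho hoo a ha
  have h3 := hinner g2 h2 _ ((mem_normalizer_iff.mp ho a).mp ha)
  have := htrans h1 h3
  rw [e]
  simpa [mul_assoc] using this

theorem conj_S {g a : G} (hg : g ∈ normalizer ((P : Subgroup G) : Set G)) (ha : a ∈ (P : Subgroup G)) :
    MulAut.conj g a ∈ (P : Subgroup G) := (mem_normalizer_iff.mp hg a).mp ha

theorem conj_conj_inv (g a : G) : MulAut.conj g (MulAut.conj g⁻¹ a) = a := by
  rw [← MulAut.mul_apply, ← map_mul, mul_inv_cancel, map_one, MulAut.one_apply]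

/-- An element of odd order whose square fixes `a` fixes `a`. -/
theorem fix_of_sq_fix {g a : G} (hodd : Odd (orderOf g)) (h : MulAut.conj g (MulAut.conj g a) = a) :
    MulAut.conj g a = a := by
  obtain ⟨j, hj⟩ := hodd
  have hit : ∀ i : ℕ, MulAut.conj ((g * g) ^ i) a = a := by
    intro i
    induction i with
    | zero => simp
    | succ i ih =>
      rw [pow_succ, map_mul, MulAut.mul_apply, map_mul MulAut.conj g g, MulAut.mul_apply, h, ih]
  have e : g = (g * g) ^ (j + 1) := by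
    rw [← pow_two, ← pow_mul, show 2 * (j + 1) = (2 * j + 1) + 1 by ring, pow_succ, ← hj, pow_orderOf_eq_one,
      one_mul]
  conv_lhs => rw [e]
  exact hit _

theorem odd_inj_mul {n N : ℕ} (hn : ∃ k, n = 2 ^ k) (hN : Odd N) {i : ℤ} (h : (n : ℤ) ∣ (N : ℤ) * i) :
    (n : ℤ) ∣ i := by
  obtain ⟨k, rfl⟩ := hn
  refine IsCoprime.dvd_of_dvd_mul_left ?_ h
  rw [Int.isCoprime_iff_gcd_eq_one, Int.gcd_natCast_natCast]
  exact (Nat.coprime_two_left.mpr hN).pow_left k

theorem odd_root_eq_one {n N : ℕ} (hn : ∃ k, n = 2 ^ k) (hN : Odd N) {j : ℤ}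
    (h : (n : ℤ) ∣ j ^ N - 1) : (n : ℤ) ∣ j - 1 := by
  obtain ⟨k, rfl⟩ := hn
  have h1 : ((j : ZMod (2 ^ k)) ^ N) = 1 := by
    rw [← sub_eq_zero]
    have := (ZMod.intCast_zmod_eq_zero_iff_dvd _ _).mpr h
    push_cast at this ⊢
    exact this
  let u : (ZMod (2 ^ k))ˣ := ⟨j, (j : ZMod (2 ^ k)) ^ (N - 1),
    by rw [← pow_succ', Nat.sub_add_cancel hN.pos, h1], by rw [← pow_succ, Nat.sub_add_cancel hN.pos, h1]⟩
  have hu : u ^ N = 1 := Units.ext (by rw [Units.val_pow_eq_pow_val]; exact h1)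
  have ht := ZMod.pow_totient u
  obtain ⟨a, ha⟩ : ∃ a, Nat.totient (2 ^ k) = 2 ^ a := by
    rcases k with _ | k
    · exact ⟨0, rfl⟩
    · exact ⟨k, by rw [Nat.totient_prime_pow_succ Nat.prime_two]; simp⟩
  rw [ha] at ht
  have := pow_gcd_eq_one.mpr ⟨hu, ht⟩
  rw [show Nat.gcd N (2 ^ a) = 1 from (Nat.coprime_two_right.mpr hN).pow_right a, pow_one] at this
  refine (ZMod.intCast_zmod_eq_zero_iff_dvd _ _).mp ?_
  push_cast
  rw [sub_eq_zero]
  exact congrArg Units.val this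

namespace Frame

variable (fr : Frame (P : Subgroup G))

/-- The order of the rotation is a power of two. -/
theorem l_two_pow : ∃ k, 2 * fr.l = 2 ^ k := by
  haveI : Fact (Nat.Prime 2) := ⟨Nat.prime_two⟩
  obtain ⟨a, ha⟩ := (IsPGroup.iff_orderOf.mp P.2) ⟨fr.r, fr.D_le fr.r_mem⟩
  rw [Subgroup.orderOf_mk, fr.order_r] at ha
  have hl := fr.l_pos
  rcases a with _ | a
  · rw [pow_zero] at ha; omega
  · exact ⟨a, by rw [pow_succ] at ha; omega⟩

theorem zpow_two_l (q : ℤ) :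
    fr.r ^ ((2 * fr.l : ℕ) * q : ℤ) = 1 ∨ fr.r ^ ((2 * fr.l : ℕ) * q : ℤ) = fr.z := by
  refine fr.eq_z_of_sq (zpow_mem (mem_zpowers _) _) ?_
  rw [← zpow_add, ← orderOf_dvd_iff_zpow_eq_one, fr.order_r]
  exact ⟨q, by push_cast; ring⟩

theorem dvd_of_zpow_mem {i : ℤ} (h : fr.r ^ i = 1 ∨ fr.r ^ i = fr.z) : ((2 * fr.l : ℕ) : ℤ) ∣ i := by
  have h2 : fr.r ^ (2 * i) = 1 := by
    rcases h with h | h
    · rw [mul_comm, zpow_mul, h, one_zpow]
    · rw [mul_comm, zpow_mul, h, zpow_two, fr.z_mul_z]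
  rw [← orderOf_dvd_iff_zpow_eq_one, fr.order_r] at h2
  obtain ⟨c, hc⟩ := h2
  exact ⟨c, by push_cast at hc ⊢; linarith⟩

/-- The subgroup `{1, z}`. -/
def centreD : Subgroup G := zpowers fr.z

theorem mem_centreD {c : G} : c ∈ fr.centreD ↔ c = 1 ∨ c = fr.z := by
  refine ⟨fun h => ?_, ?_⟩
  · obtain ⟨i, rfl⟩ := mem_zpowers_iff.mp h
    exact fr.eq_z_of_sq (zpow_mem fr.z_mem_rot i) (by rw [← (Commute.refl fr.z).mul_zpow, fr.z_mul_z, one_zpow])
  · rintro (rfl | rfl)
    exacts [one_mem _, mem_zpowers _]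

variable {g : G} (hg : g ∈ normalizer ((P : Subgroup G) : Set G)) (hz : MulAut.conj g fr.z = fr.z)
  (hQ : fr.Q ≤ closure {q | q ∈ fr.Q ∧ q * q = 1})

include hQ in
/-- The elements with rotation projection are recognised inside `S`. -/
theorem rot_iff {a : G} (ha : a ∈ (P : Subgroup G)) :
    fr.pr a ∈ zpowers fr.r ↔ ∀ c ∈ (P : Subgroup G),
      (∀ b ∈ (P : Subgroup G), b * b = fr.z → c * b = b * c) → a * c = c * a := by
  have hroot : ∀ q ∈ fr.Q, q * q = 1 → fr.x * q * (fr.x * q) = fr.z := fun q hq hq2 => by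
    calc fr.x * q * (fr.x * q) = fr.x * (q * fr.x) * q := by group
      _ = fr.x * fr.x * (q * q) := by rw [← fr.commute_DQ fr.x_mem hq]; group
      _ = fr.z := by rw [hq2, mul_one, fr.x_mul_x]
  constructor
  · intro har c hc hcb
    have hx := hcb fr.x (fr.D_le fr.x_mem) fr.x_mul_x
    have hcr : fr.pr c ∈ zpowers fr.r :=
      fr.rot_of_commute fr.x_mem_rot fr.x_sq_ne_one (fr.pr_mem hc)
        ((fr.commute_iff_pr fr.x_mem hc).mp hx.symm).symm
    -- the other component of `c` is central in `Q`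
    have hcq : ∀ q ∈ fr.Q, c * q = q * c := by
      have hle : closure {q | q ∈ fr.Q ∧ q * q = 1} ≤ centralizer {c} := by
        rw [closure_le]
        rintro q ⟨hq, hq2⟩
        rw [SetLike.mem_coe, mem_centralizer_singleton_iff]
        have h1 := hcb _ (P.mul_mem (fr.D_le fr.x_mem) (fr.Q_le hq)) (hroot q hq hq2)
        have h2 : q = fr.x⁻¹ * (fr.x * q) := by group
        have h3 : Commute c fr.x⁻¹ := (show Commute c fr.x from hx).inv_right
        rw [h2]
        exact (h3.mul_right h1).eq.symm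
      exact fun q hq => (mem_centralizer_singleton_iff.mp (hle (hQ hq))).symm
    have hq := hcq _ (fr.pr_spec ha).2
    have hd : c * fr.pr a = fr.pr a * c :=
      ((fr.commute_iff_pr (fr.pr_mem ha) hc).mpr (fr.rot_comm har hcr)).symm
    have e : a = fr.pr a * ((fr.pr a)⁻¹ * a) := by group
    rw [e]
    exact (Commute.mul_left (show Commute (fr.pr a) c from hd.symm) (show Commute _ c from hq.symm)).eq
  · intro h
    have hr := h fr.r (fr.D_le fr.r_mem) fun b hb hb2 => by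
      refine (fr.commute_iff_pr fr.r_mem hb).mpr (fr.rot_comm (mem_zpowers _) ?_)
      by_contra hbr
      have e := congrArg fr.pr hb2
      rw [fr.pr_mul hb hb, fr.refl_sq ⟨fr.pr_mem hb, hbr⟩, fr.pr_of_mem_D fr.z_mem] at e
      exact fr.z_ne_one e.symm
    refine fr.rot_of_commute (mem_zpowers _) (fun e => ?_) (fr.pr_mem ha)
      ((fr.commute_iff_pr fr.r_mem ha).mp hr.symm).symm
    rw [← pow_two] at e
    have := Nat.le_of_dvd two_pos (fr.order_r ▸ orderOf_dvd_of_pow_eq_one e)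
    have := fr.l_pos
    omega

include hg hz hQ

theorem rot_conj_iff {a : G} (ha : a ∈ (P : Subgroup G)) :
    fr.pr (MulAut.conj g a) ∈ zpowers fr.r ↔ fr.pr a ∈ zpowers fr.r := by
  rw [fr.rot_iff hQ ha, fr.rot_iff hQ (conj_S hg ha)]
  have hz' : MulAut.conj g⁻¹ fr.z = fr.z := by conv_lhs => rw [← hz, conj_inv_conj]
  constructor
  · intro h c hc hcb
    refine (MulAut.conj g).injective ?_
    rw [map_mul, map_mul]
    refine h _ (conj_S hg hc) fun b hb hb2 => ?_
    have := hcb _ (conj_S (inv_mem hg) hb) (by rw [← map_mul, hb2, hz'])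
    have := congrArg (MulAut.conj g) this
    rwa [map_mul, map_mul, conj_conj_inv] at this
  · intro h c hc hcb
    refine (MulAut.conj g⁻¹).injective ?_
    rw [map_mul, map_mul, conj_inv_conj]
    refine h _ (conj_S (inv_mem hg) hc) fun b hb hb2 => ?_
    have := hcb _ (conj_S hg hb) (by rw [← map_mul, hb2, hz])
    have := congrArg (MulAut.conj g⁻¹) this
    rwa [map_mul, map_mul, conj_inv_conj] at this

theorem pr_conj_Q {q : G} (hq : q ∈ fr.Q) : fr.pr (MulAut.conj g q) ∈ fr.centreD := by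
  induction hQ hq using closure_induction with
  | mem y hy =>
    have hyS := fr.Q_le hy.1
    have h1 : fr.pr (MulAut.conj g y) ∈ zpowers fr.r := by
      rw [fr.rot_conj_iff hg hz hQ hyS, fr.pr_of_mem_Q hy.1]; exact one_mem _
    refine fr.mem_centreD.mpr (fr.eq_z_of_sq h1 ?_)
    rw [← fr.pr_mul (conj_S hg hyS) (conj_S hg hyS), ← map_mul, hy.2, map_one, fr.pr_one]
  | one => rw [map_one, fr.pr_one]; exact one_mem _
  | mul a b ha hb iha ihb =>
    have haQ : a ∈ fr.Q := (closure_le _).mpr (fun y hy => hy.1) ha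
    have hbQ : b ∈ fr.Q := (closure_le _).mpr (fun y hy => hy.1) hb
    rw [map_mul, fr.pr_mul (conj_S hg (fr.Q_le haQ)) (conj_S hg (fr.Q_le hbQ))]
    exact mul_mem (iha haQ) (ihb hbQ)
  | inv a ha iha =>
    have haQ : a ∈ fr.Q := (closure_le _).mpr (fun y hy => hy.1) ha
    rw [map_inv, fr.pr_inv (conj_S hg (fr.Q_le haQ))]
    exact inv_mem (iha haQ)

/-- An odd order element fixing `z` moves projections by `z` at most. -/
theorem pr_conj_odd (hodd : Odd (orderOf g)) {a : G} (ha : a ∈ (P : Subgroup G)) :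
    (fr.pr a)⁻¹ * fr.pr (MulAut.conj g a) ∈ fr.centreD := by
  set C := fr.centreD
  have hCc : ∀ {c d : G}, c ∈ C → d ∈ fr.D → d * c = c * d := fun {c d} hc hd => by
    rcases fr.mem_centreD.mp hc with rfl | rfl
    exacts [by simp, fr.z_comm_D hd]
  set p : G → G := fun a => fr.pr (MulAut.conj g a) with hp
  have hpm : ∀ {a b : G}, a ∈ (P : Subgroup G) → b ∈ (P : Subgroup G) → p (a * b) = p a * p b := fun ha hb => by
    simp only [hp, map_mul]
    exact fr.pr_mul (conj_S hg ha) (conj_S hg hb)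
  have hr_p : ∀ i : ℤ, p (fr.r ^ i) = p fr.r ^ i := by
    intro i
    let φ : (P : Subgroup G) →* G := MonoidHom.mk' (fun a => p a) fun a b => hpm a.2 b.2
    exact map_zpow φ ⟨fr.r, fr.D_le fr.r_mem⟩ i
  have hrr : fr.pr (MulAut.conj g fr.r) ∈ zpowers fr.r := by
    rw [fr.rot_conj_iff hg hz hQ (fr.D_le fr.r_mem), fr.pr_of_mem_D fr.r_mem]; exact mem_zpowers _
  obtain ⟨j, hj⟩ := mem_zpowers_iff.mp hrr
  have hsS := fr.D_le fr.s_mem
  have hss : fr.IsRefl (fr.pr (MulAut.conj g fr.s)) := ⟨fr.pr_mem (conj_S hg hsS), fun h => by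
    rw [fr.rot_conj_iff hg hz hQ hsS, fr.pr_of_mem_D fr.s_mem] at h
    exact fr.s_notMem h⟩
  obtain ⟨i, hi⟩ := fr.exists_of_isRefl hss
  have hpn : ∀ n : ℕ, g ^ n ∈ normalizer ((P : Subgroup G) : Set G) := fun n => pow_mem hg n
  have hdecomp : ∀ a ∈ (P : Subgroup G), (p (fr.pr a))⁻¹ * p a ∈ C := by
    intro a ha
    have := fr.pr_conj_Q hg hz hQ (fr.pr_spec ha).2
    have e : p a = p (fr.pr a) * p ((fr.pr a)⁻¹ * a) := by
      rw [← hpm (fr.D_le (fr.pr_mem ha)) (fr.Q_le (fr.pr_spec ha).2), mul_inv_cancel_left]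
    rw [e, inv_mul_cancel_left]
    exact this
  have hstep : ∀ n : ℕ, MulAut.conj (g ^ (n + 1)) = MulAut.conj g * MulAut.conj (g ^ n) := fun n => by
    rw [pow_succ', map_mul]
  -- iterate on `r`
  have hitr : ∀ n : ℕ, (fr.r ^ (j ^ n))⁻¹ * fr.pr (MulAut.conj (g ^ n) fr.r) ∈ C := by
    intro n
    induction n with
    | zero => rw [pow_zero, zpow_one, pow_zero, map_one, MulAut.one_apply, fr.pr_of_mem_D fr.r_mem, inv_mul_cancel]; exact one_mem _
    | succ n ih =>
      have hb := conj_S (hpn n) (fr.D_le fr.r_mem)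
      rw [hstep, MulAut.mul_apply]
      have h1 := hdecomp _ hb
      obtain ⟨c, hc, hce⟩ : ∃ c ∈ C, fr.pr (MulAut.conj (g ^ n) fr.r) = fr.r ^ (j ^ n) * c :=
        ⟨_, ih, (mul_inv_cancel_left _ _).symm⟩
      rw [hce, hpm (zpow_mem (fr.D_le fr.r_mem) _) (by
        rcases fr.mem_centreD.mp hc with rfl | rfl
        exacts [P.one_mem, fr.D_le fr.z_mem]), hr_p] at h1
      have hpc : p c = c := by
        rcases fr.mem_centreD.mp hc with rfl | rfl
        · simp only [hp, map_one, fr.pr_one]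
        · simp only [hp, hz, fr.pr_of_mem_D fr.z_mem]
      rw [hpc, show p fr.r = fr.r ^ j from hj.symm, ← zpow_mul, ← pow_succ'] at h1
      have := mul_mem hc h1
      rwa [mul_inv_rev, mul_assoc, mul_inv_cancel_left] at this
  have hj1 : ((2 * fr.l : ℕ) : ℤ) ∣ j - 1 := by
    refine odd_root_eq_one fr.l_two_pow hodd (fr.dvd_of_zpow_mem ?_)
    have := hitr (orderOf g)
    rw [pow_orderOf_eq_one, map_one, MulAut.one_apply, fr.pr_of_mem_D fr.r_mem] at this
    refine fr.mem_centreD.mp ?_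
    have h2 := inv_mem this
    rw [mul_inv_rev, inv_inv] at h2
    rwa [zpow_sub, zpow_one, (((Commute.refl fr.r).zpow_left _).inv_right).eq]
  have hR : ∀ k : ℤ, (fr.r ^ k)⁻¹ * p (fr.r ^ k) ∈ C := by
    intro k
    obtain ⟨q, hq⟩ := hj1
    rw [hr_p, show p fr.r = fr.r ^ j from hj.symm, ← zpow_mul, ← zpow_neg, ← zpow_add,
      show -k + j * k = ((2 * fr.l : ℕ) : ℤ) * (q * k) by
        rw [show j = 1 + ((2 * fr.l : ℕ) : ℤ) * q by rw [← hq]; ring]; ring]
    exact fr.mem_centreD.mpr (fr.zpow_two_l _)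
  have hS1 : p fr.s = fr.s * fr.r ^ i := hi
  have hits : ∀ n : ℕ, (fr.s * fr.r ^ ((n : ℤ) * i))⁻¹ * fr.pr (MulAut.conj (g ^ n) fr.s) ∈ C := by
    intro n
    induction n with
    | zero =>
      rw [Nat.cast_zero, zero_mul, zpow_zero, mul_one, pow_zero, map_one, MulAut.one_apply,
        fr.pr_of_mem_D fr.s_mem, inv_mul_cancel]
      exact one_mem _
    | succ n ih =>
      have hb := conj_S (hpn n) hsS
      rw [hstep, MulAut.mul_apply]
      have h1 := hdecomp _ hb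
      obtain ⟨c, hc, hce⟩ : ∃ c ∈ C, fr.pr (MulAut.conj (g ^ n) fr.s) = fr.s * fr.r ^ ((n : ℤ) * i) * c :=
        ⟨_, ih, (mul_inv_cancel_left _ _).symm⟩
      have hrS := zpow_mem (fr.D_le fr.r_mem) ((n : ℤ) * i)
      rw [hce, hpm (P.mul_mem hsS hrS) (by
        rcases fr.mem_centreD.mp hc with rfl | rfl
        exacts [P.one_mem, fr.D_le fr.z_mem]), hpm hsS hrS, hS1] at h1
      have hpc : p c = c := by
        rcases fr.mem_centreD.mp hc with rfl | rfl
        · simp only [hp, map_one, fr.pr_one]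
        · simp only [hp, hz, fr.pr_of_mem_D fr.z_mem]
      rw [hpc] at h1
      obtain ⟨c', hc', hce'⟩ : ∃ c' ∈ C, p (fr.r ^ ((n : ℤ) * i)) = fr.r ^ ((n : ℤ) * i) * c' :=
        ⟨_, hR _, (mul_inv_cancel_left _ _).symm⟩
      rw [hce'] at h1
      have e : fr.s * fr.r ^ ((↑(n + 1) : ℤ) * i) = fr.s * fr.r ^ i * fr.r ^ ((n : ℤ) * i) := by
        rw [mul_assoc, ← zpow_add]; congr 2; push_cast; ring
      rw [e]
      have := mul_mem (mul_mem hc' hc) h1
      show (fr.s * fr.r ^ i * fr.r ^ ((n : ℤ) * i))⁻¹ * p (MulAut.conj (g ^ n) fr.s) ∈ C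
      convert this using 1
      group
  have hi1 : ((2 * fr.l : ℕ) : ℤ) ∣ i := by
    refine odd_inj_mul fr.l_two_pow hodd (fr.dvd_of_zpow_mem (fr.mem_centreD.mp ?_))
    have := hits (orderOf g)
    rw [pow_orderOf_eq_one, map_one, MulAut.one_apply, fr.pr_of_mem_D fr.s_mem, mul_inv_rev, mul_assoc,
      inv_mul_cancel, mul_one] at this
    simpa using inv_mem this
  have hS : ∀ k : ℤ, (fr.s * fr.r ^ k)⁻¹ * p (fr.s * fr.r ^ k) ∈ C := by
    intro k
    obtain ⟨q, hq⟩ := hi1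
    have h1 : fr.r ^ i ∈ C := hq ▸ fr.mem_centreD.mpr (fr.zpow_two_l q)
    have h2 := hR k
    rw [hpm hsS (zpow_mem (fr.D_le fr.r_mem) k), hS1]
    have h3 := mul_mem h1 h2
    have h4 := hCc h1 (inv_mem (fr.rot_mem (zpow_mem (mem_zpowers fr.r) k)))
    rw [← mul_assoc] at h3
    convert h3 using 1
    rw [← h4]
    group
  have hD : ∀ d ∈ fr.D, d⁻¹ * p d ∈ C := by
    intro d hd
    by_cases hr : d ∈ zpowers fr.r
    · obtain ⟨k, rfl⟩ := mem_zpowers_iff.mp hr; exact hR k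
    · obtain ⟨k, rfl⟩ := fr.exists_of_isRefl ⟨hd, hr⟩; exact hS k
  have h1 := mul_mem (hD _ (fr.pr_mem ha)) (hdecomp a ha)
  simpa [hp, mul_assoc] using h1

end Frame

end CfsgLib.AfterFT.DihedralSquare
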