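import Cfsg.Agent.Lib.AfterFT.DihedralSquare.Essential

/-!
The automizer of an essential subgroup `V × Q` with `V` a four-group in the dihedral factor.
-/

set_option autoImplicit false
set_option linter.unusedSectionVars false

namespace CfsgLib.AfterFT.DihedralSquare

open Cfsg Cfsg.FusionSystem Subgroup

universe u
variable {G : Type u} [Group G]

/-- Two transvections fixing the centre of each other commute. -/
theorem trans_commute {A : Subgroup G} (hc : ∀ a ∈ A, ∀ b ∈ A, a * b = b * a) {k l w v : G} (hw : w ∈ A)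
    (hv : v ∈ A) (hk : IsTrans A k w) (hl : IsTrans A l v) (hkv : MulAut.conj k v = v)
    (hlw : MulAut.conj l w = w) {a : G} (ha : a ∈ A) :
    MulAut.conj k (MulAut.conj l a) = MulAut.conj l (MulAut.conj k a) := by
  rcases hk a ha with e | e <;> rcases hl a ha with e' | e' <;>
    simp only [e, e', map_mul, hkv, hlw, mul_assoc, hc w hw v hv]

/-- The involutions in the centre. -/
def omegaZ (E : Subgroup G) : Subgroup G where
  carrier := {g | g ∈ E ∧ g * g = 1 ∧ ∀ e ∈ E, g * e = e * g}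
  one_mem' := ⟨E.one_mem, one_mul 1, fun e _ => by simp⟩
  mul_mem' := by
    rintro a b ⟨ha, ha2, hac⟩ ⟨hb, hb2, hbc⟩
    refine ⟨E.mul_mem ha hb, ?_, fun e he => ?_⟩
    · calc a * b * (a * b) = a * (b * a) * b := by group
        _ = a * a * (b * b) := by rw [← hac b hb]; group
        _ = 1 := by rw [ha2, hb2, one_mul]
    · rw [mul_assoc, hbc e he, ← mul_assoc, hac e he, mul_assoc]
  inv_mem' := by
    rintro a ⟨ha, ha2, hac⟩
    rw [inv_eq_of_mul_eq_one_left ha2]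
    exact ⟨ha, ha2, hac⟩

theorem omegaZ_conj {E : Subgroup G} {g : G} (hg : g ∈ normalizer (E : Set G)) {a : G} (ha : a ∈ omegaZ E) :
    MulAut.conj g a ∈ omegaZ E := by
  refine ⟨(mem_normalizer_iff.mp hg a).mp ha.1, by rw [← map_mul, ha.2.1, map_one], fun e he => ?_⟩
  have h := congrArg (MulAut.conj g) (ha.2.2 _ ((mem_normalizer_iff''.mp hg e).mp he))
  simp only [map_mul] at h
  simpa [mul_assoc] using h

theorem omegaZ_comm {E : Subgroup G} : ∀ a ∈ omegaZ E, ∀ b ∈ omegaZ E, a * b = b * a :=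
  fun _ ha b hb => ha.2.2 b hb.1

variable [Finite G] {P : Sylow 2 G} {E : Subgroup G}

/-- An essential subgroup `V × Q` with `V = ⟨t, z⟩`. -/
structure Typical (fr : Frame (P : Subgroup G)) (E : Subgroup G) (t : G) : Prop where
  ess : (groupFusionSystem (P : Subgroup G)).IsEssential 2 E
  refl : fr.IsRefl t
  mem : ∀ g, g ∈ E ↔ g ∈ (P : Subgroup G) ∧ fr.InV t (fr.pr g)

namespace Frame

variable (fr : Frame (P : Subgroup G))

theorem exists_typical (hE : (groupFusionSystem (P : Subgroup G)).IsEssential 2 E) (hD : ¬ fr.D ≤ E)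
    (hQ : fr.Q ≤ E) : ∃ t, Typical fr E t := by
  obtain ⟨t, ht, hV, hpr⟩ := fr.exists_inV hE hD
  refine ⟨t, hE, ht, fun g => ⟨fun hg => ⟨hE.1.1 hg, hpr g hg⟩, fun ⟨hg, hv⟩ => ?_⟩⟩
  have := mul_mem (hV _ hv) (hQ (fr.pr_spec hg).2)
  rwa [mul_inv_cancel_left] at this

end Frame

namespace Typical

variable {fr : Frame (P : Subgroup G)} {t : G} (h : Typical fr E t)
include h

theorem le : E ≤ (P : Subgroup G) := h.ess.1.1

theorem x_mem : fr.x ∈ normalizerIn (P : Subgroup G) E := by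
  haveI : Finite E := inferInstance
  refine ⟨fr.D_le fr.x_mem, ?_⟩
  refine mem_normalizer_fintype fun g hg => ?_
  obtain ⟨hgS, hv⟩ := (h.mem g).mp hg
  have hc : fr.pr (fr.x * g * fr.x⁻¹) = fr.x * fr.pr g * fr.x⁻¹ := by
    rw [fr.pr_mul (P.mul_mem (fr.D_le fr.x_mem) hgS) (P.inv_mem (fr.D_le fr.x_mem)),
      fr.pr_mul (fr.D_le fr.x_mem) hgS, fr.pr_inv (fr.D_le fr.x_mem), fr.pr_of_mem_D fr.x_mem]
  refine (h.mem _).mpr ⟨P.mul_mem (P.mul_mem (fr.D_le fr.x_mem) hgS) (P.inv_mem (fr.D_le fr.x_mem)), ?_⟩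
  rw [hc]
  rcases fr.inV_refl h.refl hv with (e | e) | ⟨hr, e | e⟩
  · rw [e, mul_one, mul_inv_cancel]; exact Or.inl rfl
  · rw [e, fr.z_comm_D fr.x_mem, mul_inv_cancel_right]; exact Or.inr (Or.inl rfl)
  · rw [e, fr.x_conj_refl h.refl]; exact Or.inr (Or.inr (Or.inr rfl))
  · rw [e, fr.x_conj_refl (fr.refl_z h.refl), mul_assoc, fr.z_mul_z, mul_one]; exact Or.inr (Or.inr (Or.inl rfl))

theorem x_notMem : fr.x ∉ E := by
  intro hx
  have := ((h.mem _).mp hx).2
  rw [fr.pr_of_mem_D fr.x_mem] at this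
  exact fr.x_sq_ne_one (fr.inV_sq h.refl this)

theorem normalizerIn_mem {s : G} (hs : s ∈ normalizerIn (P : Subgroup G) E) : s ∈ E ∨ fr.x⁻¹ * s ∈ E := by
  have hsS := hs.1
  have htE : t ∈ E := (h.mem t).mpr ⟨fr.D_le h.refl.1, by rw [fr.pr_of_mem_D h.refl.1]; exact Or.inr (Or.inr (Or.inl rfl))⟩
  have hst := ((h.mem _).mp ((mem_normalizer_iff.mp hs.2 t).mp htE)).2
  rw [fr.pr_mul (P.mul_mem hsS (h.le htE)) (P.inv_mem hsS), fr.pr_mul hsS (h.le htE), fr.pr_inv hsS,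
    fr.pr_of_mem_D h.refl.1] at hst
  set d := fr.pr s with hd
  rcases fr.inV_refl h.refl hst with (e | e) | ⟨-, e | e⟩
  · rw [mul_inv_eq_one, mul_eq_left] at e; exact absurd e (fr.refl_ne h.refl).1
  · rw [mul_inv_eq_iff_eq_mul, ← fr.z_comm_D (fr.pr_mem hsS), ← hd, mul_left_cancel_iff] at e
    exact absurd e (fr.refl_ne h.refl).2
  · left
    exact (h.mem s).mpr ⟨hsS, fr.inV_of_commute h.refl (fr.pr_mem hsS) (mul_inv_eq_iff_eq_mul.mp e)⟩
  · right
    have hxS := P.inv_mem (fr.D_le fr.x_mem)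
    refine (h.mem _).mpr ⟨P.mul_mem hxS hsS, ?_⟩
    rw [fr.pr_mul hxS hsS, fr.pr_inv (fr.D_le fr.x_mem), fr.pr_of_mem_D fr.x_mem, ← hd]
    refine fr.inV_of_commute h.refl (mul_mem (inv_mem fr.x_mem) (fr.pr_mem hsS)) ?_
    rw [← fr.x_conj_refl h.refl, mul_inv_eq_iff_eq_mul] at e
    calc fr.x⁻¹ * d * t = fr.x⁻¹ * (d * t) := mul_assoc _ _ _
      _ = t * (fr.x⁻¹ * d) := by rw [e]; group

theorem z_mem_U : fr.z ∈ omegaZ E := by
  refine ⟨(h.mem _).mpr ⟨fr.D_le fr.z_mem, by rw [fr.pr_of_mem_D fr.z_mem]; exact Or.inr (Or.inl rfl)⟩,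
    fr.z_mul_z, fun e he => fr.z_comm (h.le he)⟩

theorem t_mem_U : t ∈ omegaZ E := by
  refine ⟨(h.mem t).mpr ⟨fr.D_le h.refl.1, by rw [fr.pr_of_mem_D h.refl.1]; exact Or.inr (Or.inr (Or.inl rfl))⟩,
    fr.refl_sq h.refl, fun e he => (fr.commute_iff_pr h.refl.1 (h.le he)).mpr ?_⟩
  exact fr.inV_comm h.refl (Or.inr (Or.inr (Or.inl rfl))) ((h.mem e).mp he).2

theorem sylowIn : IsSylowIn 2 (normalizerIn (P : Subgroup G) E) (normalizer (E : Set G)) :=
  haveI : Fact (Nat.Prime 2) := ⟨Nat.prime_two⟩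
  (isFullyNormalized_groupFusionSystem_iff P h.le).mp h.ess.2.1

theorem act_normalizerIn {s a : G} (hs : s ∈ normalizerIn (P : Subgroup G) E) (ha : a ∈ omegaZ E) :
    MulAut.conj s a = a ∨ MulAut.conj s a = MulAut.conj fr.x a := by
  rcases h.normalizerIn_mem hs with hE | hE
  · exact Or.inl (mul_inv_eq_iff_eq_mul.mpr (ha.2.2 s hE).symm)
  · right
    have h1 : MulAut.conj (fr.x⁻¹ * s) a = a := mul_inv_eq_iff_eq_mul.mpr (ha.2.2 _ hE).symm
    rw [← congrArg (MulAut.conj fr.x) h1, ← MulAut.mul_apply, ← map_mul, mul_inv_cancel_left]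

theorem x_trans {a : G} (ha : a ∈ E) :
    (fr.IsRefl (fr.pr a) ∧ MulAut.conj fr.x a = a * fr.z) ∨ (¬ fr.IsRefl (fr.pr a) ∧ MulAut.conj fr.x a = a) := by
  obtain ⟨haS, hv⟩ := (h.mem a).mp ha
  rcases fr.inV_refl h.refl hv with e | ⟨hr, -⟩
  · refine Or.inr ⟨fun hr => ?_, ?_⟩
    · rcases e with e | e
      exacts [(fr.refl_ne hr).1 e, (fr.refl_ne hr).2 e]
    · refine mul_inv_eq_iff_eq_mul.mpr ((fr.commute_iff_pr fr.x_mem haS).mpr ?_)
      rcases e with e | e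
      · rw [e, mul_one, one_mul]
      · rw [e, fr.z_comm_D fr.x_mem]
  · refine Or.inl ⟨hr, ?_⟩
    have h1 := fr.commutator_pr fr.x_mem haS
    rw [fr.x_conj_refl hr, fr.z_comm_D hr.1, mul_inv_cancel_right, mul_inv_eq_iff_eq_mul, fr.z_comm haS] at h1
    exact h1

theorem x_isTrans : IsTrans (omegaZ E) fr.x fr.z := fun a ha => by
  rcases h.x_trans ha.1 with ⟨-, e⟩ | ⟨-, e⟩
  exacts [Or.inr e, Or.inl e]

theorem x_fix_z : MulAut.conj fr.x fr.z = fr.z := by
  rw [MulAut.conj_apply, fr.z_comm_D fr.x_mem, mul_inv_cancel_right]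

theorem x_moves_t : MulAut.conj fr.x t = t * fr.z := fr.x_conj_refl h.refl

theorem noSwap : NoSwap (normalizer (E : Set G)) (omegaZ E) := by
  refine noSwap_of_sylow h.sylowIn (fun n hn a ha => omegaZ_conj hn ha) fun s hs a ha => ?_
  suffices MulAut.conj (s * s) a = a from mul_inv_eq_iff_eq_mul.mp this
  rw [map_mul, MulAut.mul_apply]
  rcases h.act_normalizerIn hs ha with e | e
  · rw [e, e]
  · have hx : ∀ b ∈ omegaZ E, MulAut.conj fr.x (MulAut.conj fr.x b) = b := fun b hb => by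
      rw [← MulAut.mul_apply, ← map_mul, fr.x_mul_x, MulAut.conj_apply,
        fr.z_comm (h.le hb.1), mul_inv_cancel_right]
    rcases h.act_normalizerIn hs (omegaZ_conj hs.2 ha) with e' | e' <;> rw [e] at e' ⊢
    · rw [e']
      exact (MulAut.conj s).injective (e'.trans e.symm)
    · rw [e', hx a ha]

end Typical

end CfsgLib.AfterFT.DihedralSquare
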